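import Cfsg.Agent.H633.Ore.Co2Fix_m3
set_option linter.all false

-- part: H633/Ore/Co2C4
section
set_option linter.all false

/-!
# Certificates for the centralizers in `Co2` (helper633)
-/

set_option autoImplicit false

namespace Cfsg.Agent.H633.Ore.Co2.C4

/-- 21: order 7, 56 -/
def w21 : List ℕ := [0, 1, 1, 2, 1, 2, 1, 0, 2, 1, 2, 1]

def s21 : List Step := [.self 0 3 0, .self 0 1 0, .self 0 2 0, .self 1 2 1, .cnt 1 0 0 106, .cnt 2 1 0 108, .cnt 3 2 0 119, .cnt 4 3 0 133, .base 0 2276 4 [0], .and 5 0, .and 4 1, .base 6 626 7 [0, 1, 2, 4, 3, 5, 6], .and 9 6, .and 9 7, .and 1 7, .and 0 7, .and 0 7, .base 3 761 2 [0, 1, 2, 3, 4, 5, 6], .and 8 6, .base 0 2052 1 [0, 1, 2, 3, 4, 5, 6], .fin [3865848, 497881, 2104795, 2373264, 2539670, 906259, 2554662, 2650802, 2633120, 1681204, 3910424, 3595402, 3583838, 3898625, 919694, 1294336, 2756384, 1916933, 1060321, 4012198, 913075,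 148914]]

theorem k21 : chkW w21 7 s21 = true := by decide +kernel

theorem b21 : prodB s21 = 56 := by decide +kernel

/-- 22: order 8, 768 -/
def w22 : List ℕ := [1, 0, 1, 2, 1, 2, 1, 0, 1, 0, 2, 1, 2, 0, 1, 0, 1, 2, 1, 2, 1, 0]

def s22 : List Step := [.fixd 0 4 0, .fixd 1 4 1, .fixd 0 2 1, .fixd 0 1 0, .fixd 1 1 1, .self 4 1 0, .self 2 1 0, .self 3 1 1, .self 2 2 0, .self 3 2 1, .self 0 3 1, .cnt 3 4 0 0, .cnt 7 5 0 0, .cnt 4 0 0 0, .cnt 5 1 0 2, .cnt 6 2 0 4, .cnt 0 5 0 208, .base 2 1713 384 [0, 1, 2, 3, 4, 5, 6, 7], .and 12 7, .and 12 8, .andn 13 9, .andn 12 10, .andn 23 11, .and 19 12, .and 5 12, .and 5 13, .and 5 14, .and 5 15, .and 4 16, .and 4 16, .and 4 17, .andn 4 18, .andn 4 19, .and 3 19, .andn 4 20, .and 4 21, .and 4 22, .and 2 22, .and 2 23, .and 2 24, .and 1 24, .andn 1 25, .and 1 25, .cnt 0 20 0 1, .cnt 1 21 0 2, .cnt 0 16 0 1, .cnt 2 13 0 0, .cnt 3 14 0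 2, .cnt 2 15 0 0, .cnt 11 7 0 0, .base 27 922 2 [0, 1], .and 19 1, .andn 20 2, .and 8 3, .and 8 4, .and 8 4, .cnt 8 4 0 0, .base 5 1794 1 [0, 1, 2, 3], .base 9 130 1 [0], .base 7 1484 1 [0], .base 12 910 1 [0, 1, 2, 3], .base 16 1808 1 [0], .base 17 1443 1 [0], .fin [2819315, 1841855, 1379589, 1272366, 1919559, 487319, 3997670, 1895992, 707996, 1976679, 418572, 784867, 3364108, 2672095, 792287, 3419786, 1067935, 2935693, 1501631, 4073349, 2312695, 281162]]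

theorem k22 : chkW w22 8 s22 = true := by decide +kernel

theorem b22 : prodB s22 = 768 := by decide +kernel

/-- 23: order 8, 512 -/
def w23 : List ℕ := [0, 2, 1, 0, 1, 0, 2, 0, 0, 1, 0, 1]

def s23 : List Step := [.self 0 1 0, .self 0 2 0, .self 1 2 1, .self 0 3 0, .self 1 3 1, .cnt 3 3 0 64, .cnt 4 4 0 96, .cnt 5 5 0 112, .cnt 6 6 0 128, .cnt 5 7 0 112, .cnt 6 8 0 128, .cnt 4 6 0 128, .cnt 4 7 0 128, .cnt 5 8 0 192, .cnt 5 9 0 144, .cnt 6 10 0 176, .cnt 6 11 0 144, .cnt 6 12 0 144, .cnt 7 13 0 176, .base 13 2200 4 [0, 1], .and 5 1, .and 18 2, .andn 19 3, .andn 19 5, .cnt 0 3 0 32, .cnt 15 4 0 32, .base 12 267 32 [0, 1, 2, 3, 4], .and 6 4, .and 22 5, .and 22 6, .and 22 7, .and 15 8, .and 21 9, .andn 22 10, .and 22 11, .and 18 12, .andn 18 13, .and 8 13, .and 7 14, .andn 8 15, .and 8 16, .andn 8 17, .andn 8 18, .and 8 19, .and 8 20, .andn 9 21, .and 9 22, .and 9 22, .andn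 10 23, .and 8 24, .andn 8 25, .andn 7 26, .andn 7 27, .andn 7 28, .and 7 29, .and 5 29, .andn 3 30, .andn 3 31, .and 3 32, .and 3 32, .and 1 33, .cnt 31 21 0 4, .cnt 0 19 0 0, .cnt 24 20 0 0, .cnt 1 13 0 0, .cnt 1 14 0 0, .cnt 0 14 0 0, .cnt 2 10 0 0, .cnt 1 11 0 0, .cnt 2 12 0 4, .cnt 10 13 0 2, .cnt 23 3 0 0, .cnt 44 3 0 0, .cnt 1 4 0 0, .cnt 0 4 0 0, .cnt 26 2 0 0, .cnt 0 18 0 0, .cnt 57 6 0 0, .base 17 515 4 [0, 1, 2, 3, 4], .and 11 4, .and 10 5, .and 15 6, .and 10 6, .and 1 7, .cnt 3 0 0 0, .base 12 2210 1 [0], .base 7 2073 1 [0, 1], .base 5 1113 1 [0, 1, 2], .base 11 2154 1 [0], .base 12 1039 1 [0, 1, 2], .fin [591641, 1390353, 1234593, 1600184, 2215854, 562578, 1919484, 1686299, 2610926, 1475336, 1853112, 1177707, 855255, 3874253, 510924, 1655760, 1409668, 1410568, 1359206, 3560010, 895418, 1385898]]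

theorem k23 : chkW w23 8 s23 = true := by decide +kernel

theorem b23 : prodB s23 = 512 := by decide +kernel

/-- 24: order 8, 768 -/
def w24 : List ℕ := [1, 0, 1, 2, 0, 1, 0, 2, 1, 2, 0, 1, 0, 2, 1, 0]

def s24 : List Step := [.fixd 0 4 0, .fixd 1 4 1, .fixd 0 2 0, .fixd 1 2 1, .fixd 0 1 0, .self 4 1 0, .self 3 1 0, .self 4 1 1, .self 2 3 0, .self 3 3 1, .cnt 1 5 0 12, .cnt 2 6 0 14, .cnt 2 7 0 12, .cnt 1 0 0 72, .cnt 7 1 0 72, .cnt 4 1 0 56, .cnt 5 2 0 72, .cnt 12 3 0 48, .base 1 1045 32 [0, 1, 2, 3, 4], .and 8 4, .andn 9 5, .and 12 6, .andn 13 7, .and 15 8, .and 14 9, .andn 15 10, .and 23 11, .and 7 11, .andn 8 12, .and 7 13, .and 7 14, .and 7 15, .and 7 16, .and 7 17, .andn 8 18, .and 8 19, .and 6 19, .andn 7 20, .and 6 21, .andn 7 22, .and 7 23, .andn 7 24, .and 7 25, .and 7 26, .and 5 26, .andn 6 27, .andn 6 28, .cnt 19 5 0 2, .cnt 27 6 0 0, .cnt 28 7 0 4, .cnt 13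 8 0 2, .cnt 22 8 0 0, .cnt 1 9 0 2, .cnt 3 8 0 0, .cnt 23 9 0 0, .cnt 42 10 0 0, .cnt 43 11 0 4, .cnt 5 11 0 0, .cnt 20 12 0 4, .cnt 10 12 0 4, .cnt 16 13 0 1, .cnt 4 6 0 2, .base 0 2207 3 [0, 1], .and 17 1, .andn 18 2, .and 9 3, .and 8 4, .and 15 5, .and 17 6, .and 12 6, .cnt 5 4 0 0, .cnt 17 5 0 2, .cnt 33 5 0 0, .cnt 14 5 0 0, .base 8 1485 2 [0, 1, 2, 3], .and 10 3, .and 10 4, .and 38 5, .andn 39 6, .and 10 7, .andn 10 8, .cnt 14 4 0 0, .cnt 22 2 0 0, .base 2 998 2 [0, 2, 1], .and 5 2, .andn 9 3, .and 13 3, .andn 14 4, .cnt 8 2 0 0, .base 24 2005 2 [0], .and 4 0, .andn 5 1, .and 5 2, .cnt 5 0 0 0, .cnt 10 1 0 0, .cnt 21 2 0 0, .base 2 468 1 [0, 1], .base 4 1585 1 [0, 1], .base 11 1475 1 [0], .base 12 2173 1 [0], .base 10 1190 1 [0], .fin [1601741, 3496641, 2049139, 299373, 228079, 1088857, 133121, 1962972, 1667338, 2166246, 800250, 337579, 1342226, 1206319, 1077537, 1128780,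 2905327, 1335200, 450539, 1348539, 658611, 1239876]]

theorem k24 : chkW w24 8 s24 = true := by decide +kernel

theorem b24 : prodB s24 = 768 := by decide +kernel

/-- 25: order 8, 64 -/
def w25 : List ℕ := [1, 0, 2, 0, 2, 1, 2, 0, 2, 0]

def s25 : List Step := [.self 0 1 0, .self 0 2 0, .self 1 2 1, .self 1 3 0, .self 2 3 1, .self 2 3 0, .cnt 2 0 0 104, .cnt 3 1 0 116, .cnt 4 2 0 120, .cnt 5 3 0 144, .cnt 5 4 0 116, .cnt 2 1 0 8, .base 1 232 64 [0, 1, 2, 3, 4, 5, 6, 7], .and 14 7, .and 14 8, .and 11 9, .and 2 9, .andn 3 10, .and 3 11, .andn 3 12, .and 3 12, .and 3 13, .and 3 14, .andn 3 15, .and 3 15, .andn 4 16, .and 3 17, .and 2 17, .andn 2 18, .and 2 19, .and 2 19, .and 1 20, .and 1 20, .and 1 21, .cnt 0 12 0 0, .cnt 6 11 0 0, .base 3 1118 1 [0, 1, 2, 3, 4, 5, 6, 7], .base 9 265 1 [0, 1, 2], .base 14 477 1 [0, 1, 2], .fin [2248759, 8, 3295980, 2738195, 1324075, 2697465,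 3876493, 621352, 1635591, 3862197, 323142, 654727, 3580526, 2500471, 2110864, 1028108, 4167939, 1200561, 1905386, 3354776, 617446, 3746698]]

theorem k25 : chkW w25 8 s25 = true := by decide +kernel

theorem b25 : prodB s25 = 64 := by decide +kernel

end Cfsg.Agent.H633.Ore.Co2.C4
end

-- part: H633/Ore/Co2C5
section
set_option linter.all false

/-!
# Certificates for the centralizers in `Co2` (helper633)
-/

set_option autoImplicit false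

namespace Cfsg.Agent.H633.Ore.Co2.C5

/-- 26: order 8, 256 -/
def w26 : List ℕ := [1, 0, 1, 0, 2, 1, 2, 0, 1, 0]

def s26 : List Step := [.self 0 1 0, .self 0 2 0, .self 1 2 1, .self 1 3 0, .self 2 3 1, .self 2 3 0, .self 3 3 1, .cnt 3 0 0 64, .cnt 4 1 0 80, .cnt 5 2 0 96, .cnt 6 3 0 112, .cnt 7 4 0 128, .cnt 7 5 0 72, .cnt 8 6 0 88, .cnt 6 2 0 0, .cnt 7 3 0 4, .cnt 7 4 0 0, .cnt 8 5 0 2, .cnt 8 6 0 4, .cnt 13 7 0 4, .cnt 5 9 0 8, .cnt 5 10 0 8, .cnt 6 11 0 12, .cnt 7 12 0 16, .cnt 0 5 0 16, .cnt 5 12 0 96, .base 0 908 32 [0, 1, 2, 3, 4, 5, 6], .and 12 6, .and 12 7, .and 11 8, .and 20 9, .andn 21 10, .and 21 11, .and 26 12, .and 34 13, .and 7 13, .and 7 14, .andn 6 15, .andn 6 16, .and 6 17, .andn 6 18, .and 6 19, .andn 7 20, .and 7 20, .and 7 21, .and 5 22, .andn 4 23, .and 4 24, .and 3 24, .and 3 25, .andn 9 26, .and 4 27, .andn 4 28, .and 3 28, .cnt 40 16 0 0, .cnt 2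 17 0 0, .cnt 4 17 0 0, .cnt 2 1 0 0, .base 7 660 8 [0, 1, 2, 4, 6, 3, 5, 7], .and 23 7, .and 19 8, .andn 39 9, .and 16 10, .andn 14 11, .and 14 11, .and 5 12, .and 3 13, .and 2 13, .andn 3 14, .and 3 15, .andn 4 16, .and 10 17, .and 0 17, .and 6 17, .cnt 0 12 0 0, .cnt 5 11 0 0, .base 8 790 1 [0, 1], .base 10 1658 1 [0], .base 5 1389 1 [0], .base 12 2278 1 [0], .base 12 1981 1 [0], .base 12 2227 1 [0], .fin [4160592, 3152445, 2580692, 1472613, 3145995, 4024624, 1774620, 3382355, 2916418, 500303, 2020639, 573866, 3085826, 255355, 3422655, 1600679, 3009226, 1172021, 986542, 1817269, 3620330, 3574686]]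

theorem k26 : chkW w26 8 s26 = true := by decide +kernel

theorem b26 : prodB s26 = 256 := by decide +kernel

/-- 27: order 8, 512 -/
def w27 : List ℕ := [1, 2, 0, 2, 1, 0, 1, 2, 1, 2, 1, 0, 1, 2, 0, 2]

def s27 : List Step := [.self 0 1 0, .self 0 3 0, .self 1 3 1, .self 1 2 0, .self 2 2 1, .cnt 1 0 0 80, .cnt 0 0 0 96, .cnt 1 1 0 112, .cnt 0 5 0 432, .cnt 1 6 0 528, .cnt 5 7 0 432, .cnt 6 8 0 528, .base 0 2172 64 [0, 1, 2, 3], .and 10 3, .and 9 4, .andn 10 5, .and 10 6, .and 10 7, .andn 11 8, .andn 11 9, .and 21 10, .and 7 10, .andn 7 11, .andn 7 12, .and 7 13, .and 7 14, .and 7 15, .and 7 16, .andn 8 17, .and 8 18, .and 8 18, .andn 8 19, .andn 7 20, .andn 7 21, .andn 7 22, .and 7 23, .and 7 24, .and 7 25, .andn 7 25, .andn 5 26, .and 4 27, .andn 4 28, .and 4 29, .andn 1 34, .cnt 4 20 0 2, .cnt 1 21 0 0, .cnt 3 22 0 0, .cnt 4 23 0 1, .cnt 0 2 0 0, .cnt 0 17 0 1, .cnt 11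 17 0 0, .cnt 1 16 0 0, .base 28 863 2 [0, 1, 2, 3, 4, 5], .and 7 5, .and 13 5, .andn 14 6, .cnt 11 2 0 0, .base 22 2128 2 [0, 1, 2], .and 22 2, .and 7 3, .andn 8 4, .and 8 5, .cnt 8 0 0 0, .base 4 641 2 [0, 1, 3, 2], .and 5 3, .and 8 3, .and 10 3, .base 2 1651 1 [0, 1], .base 3 1843 1 [0, 1], .base 7 50 1 [0], .fin [2734488, 2489289, 3441956, 684440, 1928038, 3399973, 895538, 314883, 2969231, 887400, 2755052, 3470614, 2526801, 2976399, 2067386, 3458737, 736575, 2597886, 862836, 3818873, 3094666, 2143085]]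

theorem k27 : chkW w27 8 s27 = true := by decide +kernel

theorem b27 : prodB s27 = 512 := by decide +kernel

/-- 28: order 9, 54 -/
def w28 : List ℕ := [0, 1, 1, 2, 0, 2, 1, 0, 2, 0, 2, 1]

def s28 : List Step := [.self 0 1 0, .self 0 3 0, .self 1 3 1, .self 1 2 1, .self 1 2 0, .self 2 2 1, .self 2 4 0, .self 2 4 0, .self 3 4 1, .self 3 4 1, .cnt 1 2 0 21, .cnt 0 1 0 15, .cnt 5 0 0 1, .cnt 6 1 0 7, .base 2 1324 9 [0, 1, 4, 2, 3, 5, 6, 7, 8], .andn 11 8, .andn 11 9, .and 1 9, .and 1 9, .base 1 1513 3 [0, 3, 1, 2, 4, 5, 6], .and 8 6, .andn 0 6, .base 0 1580 2 [0, 1, 2, 3, 4, 5], .fin [693602, 3198503, 2366703, 864675, 1933369, 656118, 2365248, 2133024, 1392493, 3856457, 3396864, 3429995, 3059030, 2373353, 3971991, 2975885, 740581, 3806527, 4192690, 1959136, 3874687, 1521515]]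

theorem k28 : chkW w28 9 s28 = true := by decide +kernel

theorem b28 : prodB s28 = 54 := by decide +kernel

/-- 29: order 10, 40 -/
def w29 : List ℕ := [1, 0, 2, 0, 1, 2, 0, 2, 1, 2, 0, 2, 1, 0, 2, 0]

def s29 : List Step := [.self 0 1 0, .self 0 2 0, .self 0 3 0, .self 1 3 1, .self 1 4 0, .self 1 4 0, .self 2 4 1, .self 2 5 0, .self 2 5 1, .self 2 5 0, .cnt 2 0 0 16, .cnt 3 1 0 20, .cnt 4 2 0 24, .cnt 5 3 0 40, .cnt 5 4 0 28, .cnt 2 1 0 1, .cnt 4 5 0 0, .base 2 1589 40 [0, 1, 2, 3, 4, 5, 6, 7, 8, 9], .and 17 9, .and 12 10, .and 14 11, .and 17 12, .and 3 12, .and 2 13, .and 1 13, .andn 2 14, .and 2 15, .and 2 15, .and 1 16, .and 1 16, .and 4 17, .andn 0 17, .cnt 12 10 0 0, .base 3 1539 1 [0, 1, 2, 3, 4, 5, 6, 7, 8], .base 11 2006 1 [0], .base 12 1827 1 [0], .base 18 2145 1 [0], .fin [1880481, 527274, 2832495, 2772624, 3972208, 2194422, 3060856, 1221154, 4134398, 3098168,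 3099816, 694426, 3451310, 2104684, 3630359, 2675489, 934133, 1924804, 1264873, 19056, 1200642, 3841047]]

theorem k29 : chkW w29 10 s29 = true := by decide +kernel

theorem b29 : prodB s29 = 40 := by decide +kernel

/-- 30: order 10, 60 -/
def w30 : List ℕ := [0, 1, 1, 2, 0, 1, 2, 1, 0, 2, 1, 0, 2, 1]

def s30 : List Step := [.self 0 4 0, .self 0 1 0, .self 0 2 0, .self 1 2 1, .self 1 3 0, .self 2 3 1, .self 2 3 0, .self 3 3 1, .cnt 3 1 0 8, .cnt 4 2 0 20, .cnt 5 3 0 24, .cnt 6 4 0 28, .cnt 7 5 0 32, .cnt 8 6 0 40, .cnt 6 7 0 20, .cnt 4 1 0 3, .cnt 2 2 0 1, .cnt 11 3 0 2, .cnt 2 8 0 0, .cnt 12 9 0 6, .cnt 8 0 0 4, .cnt 8 6 0 14, .base 5 593 3 [0], .and 14 0, .andn 15 1, .andn 5 2, .and 9 3, .andn 11 5, .cnt 7 4 0 0, .cnt 11 0 0 0, .cnt 12 1 0 2, .cnt 4 2 0 3, .base 8 1001 2 [0, 1], .and 10 1, .and 10 2, .and 5 3, .base 10 1941 2 [0], .and 4 0, .andn 5 1, .and 5 2, .and 5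 3, .cnt 13 1 0 3, .base 37 539 5 [0, 1, 2, 3], .and 6 3, .andn 7 4, .and 1 4, .and 0 4, .and 0 4, .cnt 25 3 0 0, .cnt 11 4 0 0, .base 16 526 1 [0], .base 17 2211 1 [0], .base 5 424 1 [0, 1, 2, 3], .base 9 1326 1 [0, 1, 2, 3], .base 16 1747 1 [0, 1, 2, 3], .fin [540656, 1841819, 328560, 2408452, 2962728, 1136821, 2159412, 2329061, 1659132, 3357093, 4099477, 562799, 1346010, 2571960, 608164, 1851744, 2265089, 2816929, 3936327, 3352898, 3773650, 3963065]]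

theorem k30 : chkW w30 10 s30 = true := by decide +kernel

theorem b30 : prodB s30 = 60 := by decide +kernel

end Cfsg.Agent.H633.Ore.Co2.C5
end
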