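import Cfsg.Agent.H633.Ore.Co2Fix_m3
set_option linter.all false

-- part: H633/Ore/Co2F0
section
set_option linter.all false

-- part: H633/Ore/Co2C0
section
/-!
# Certificates for the centralizers in `Co2` (helper633)
-/

set_option autoImplicit false

namespace Cfsg.Agent.H633.Ore.Co2.C0

/-- 1: order 2, 743178240 -/
def w1 : List ℕ := [2, 1, 0, 2, 0, 2, 1, 0, 1, 2, 0, 1, 0, 2, 0, 1, 2, 0, 1, 2, 1, 0, 2, 1, 0, 2, 0, 1, 0, 2, 1, 0, 1, 2, 0, 2, 0, 1]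

def s1 : List Step := [.fixd 0 1 0, .fixd 1 1 1, .cnt 0 1 0 1152, .base 0 2019 28 [0], .and 4 0, .andn 5 1, .andn 4 3, .base 1 2265 864 [0, 1], .and 5 1, .andn 6 2, .andn 6 3, .and 6 4, .andn 7 5, .and 4 5, .andn 5 6, .and 5 7, .andn 6 8, .and 6 9, .andn 7 10, .andn 0 13, .cnt 0 7 0 8, .cnt 8 4 0 96, .cnt 1 7 0 128, .cnt 2 8 0 192, .base 12 1540 16 [0], .and 12 0, .andn 13 1, .and 13 2, .andn 14 3, .and 14 4, .andn 13 5, .and 9 6, .andn 10 7, .and 10 8, .cnt 5 2 0 5, .cnt 6 3 0 13, .cnt 5 4 0 5, .cnt 16 0 0 16, .base 0 2081 5 [0], .and 14 0, .andn 15 1, .and 15 2, .and 15 3, .andn 8 4, .and 15 5, .andn 13 6, .andn 13 7, .cnt 7 1 0 2, .cnt 8 2 0 4, .cnt 7 3 0 4, .base 3 1557 4 [0], .and 4 0, .andn 5 1, .and 13 2, .and 12 3, .andn 13 4, .andn 23 5, .andn 14 6, .andn 14 7, .cnt 11 1 0 2, .base 11 2031 96 [0, 1], .and 11 1, .and 11 2, .and 5 3, .and 12 4, .andn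 13 5, .and 13 6, .and 13 7, .andn 14 8, .and 14 9, .andn 13 10, .and 9 10, .andn 10 11, .and 10 12, .andn 11 13, .andn 11 14, .and 11 15, .andn 11 16, .and 11 17, .andn 11 18, .andn 11 19, .and 10 20, .cnt 7 12 0 0, .cnt 8 13 0 1, .cnt 8 14 0 0, .cnt 8 15 0 1, .cnt 8 16 0 1, .cnt 8 17 0 0, .cnt 8 18 0 2, .cnt 8 19 0 1, .cnt 9 20 0 2, .cnt 9 21 0 0, .cnt 20 3 0 0, .cnt 21 4 0 1, .cnt 21 5 0 0, .cnt 22 6 0 1, .cnt 22 7 0 0, .cnt 14 8 0 0, .cnt 14 9 0 0, .cnt 14 10 0 0, .cnt 14 11 0 0, .cnt 14 12 0 0, .cnt 14 13 0 0, .cnt 9 13 0 0, .cnt 7 14 0 0, .cnt 6 15 0 0, .cnt 6 16 0 0, .cnt 6 17 0 0, .cnt 5 18 0 0, .cnt 14 18 0 0, .cnt 15 19 0 1, .cnt 15 20 0 0, .cnt 7 20 0 0, .cnt 20 15 0 0, .cnt 21 16 0 1, .cnt 11 17 0 0, .cnt 5 18 0 0, .cnt 5 19 0 0, .cnt 8 16 0 0, .cnt 9 17 0 1, .base 6 1310 1 [0], .base 7 447 1 [0], .base 8 2055 1 [0], .base 7 578 1 [0, 1], .base 9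 742 1 [0], .base 14 274 1 [0], .base 15 214 1 [0], .base 22 1786 1 [0], .base 39 1931 1 [0], .base 33 105 1 [0], .base 34 1727 1 [0], .base 35 1724 1 [0], .base 36 289 1 [0], .fin [112527, 3665117, 3895057, 1886394, 2641512, 632813, 598514, 121081, 2910190, 2258972, 1467643, 3165040, 3017816, 1674308, 1212596, 3893477, 3028861, 1088969, 1874435, 1631768, 629137, 289353]]

theorem k1 : chkW w1 2 s1 = true := by decide +kernel

theorem b1 : prodB s1 = 743178240 := by decide +kernel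

/-- 2: order 2, 1474560 -/
def w2 : List ℕ := [1, 0, 2, 1, 0, 1, 2, 0, 1, 0, 2, 1, 0, 1, 2, 0]

def s2 : List Step := [.self 0 1 0, .self 1 1 1, .cnt 1 0 0 512, .cnt 2 1 0 640, .base 2 1500 1024 [0, 1], .and 4 1, .and 4 2, .and 7 3, .andn 8 4, .and 3 4, .andn 4 5, .and 4 6, .and 4 7, .andn 5 8, .and 5 9, .andn 6 10, .andn 1 13, .cnt 5 7 0 6, .cnt 4 8 0 2, .cnt 5 9 0 6, .cnt 3 10 0 2, .cnt 4 11 0 6, .cnt 6 12 0 0, .cnt 7 13 0 4, .cnt 4 1 0 0, .cnt 3 2 0 0, .cnt 2 15 0 10, .base 14 391 360 [0, 1], .and 20 1, .andn 21 2, .and 21 3, .andn 22 4, .and 16 5, .andn 22 6, .andn 17 7, .andn 12 8, .andn 17 9, .andn 13 10, .and 17 11, .andn 14 12, .and 7 12, .andn 8 13, .and 8 14, .andn 8 15, .andn 8 16, .andn 8 17, .andn 8 18, .and 7 19, .andn 5 22, .cnt 18 10 0 0, .cnt 18 11 0 0, .cnt 2 12 0 1, .cnt 4 13 0 0, .cnt 12 2 0 0, .cnt 13 3 0 2, .cnt 13 4 0 1, .cnt 14 5 0 2,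 .cnt 5 6 0 1, .cnt 14 7 0 0, .cnt 14 8 0 2, .cnt 14 9 0 2, .cnt 14 10 0 0, .cnt 9 11 0 0, .cnt 33 3 0 0, .cnt 34 4 0 1, .cnt 15 5 0 0, .cnt 11 6 0 0, .cnt 12 7 0 1, .cnt 12 8 0 0, .cnt 12 9 0 0, .cnt 12 10 0 1, .cnt 7 10 0 0, .cnt 8 11 0 1, .cnt 5 12 0 0, .cnt 6 13 0 1, .cnt 5 14 0 1, .cnt 5 15 0 1, .cnt 10 15 0 0, .cnt 11 16 0 1, .cnt 4 17 0 1, .cnt 11 18 0 0, .cnt 12 19 0 1, .cnt 8 23 0 1, .cnt 3 24 0 0, .cnt 7 25 0 0, .cnt 56 22 0 0, .cnt 57 23 0 1, .cnt 8 24 0 0, .cnt 5 25 0 0, .cnt 5 26 0 0, .cnt 8 27 0 0, .cnt 6 28 0 1, .base 0 830 4 [0, 1], .and 23 1, .andn 24 2, .andn 24 3, .and 44 4, .and 21 5, .and 11 6, .andn 12 7, .and 12 8, .and 12 9, .and 28 10, .and 17 10, .andn 18 11, .and 6 12, .and 27 13, .cnt 0 13 0 0, .cnt 24 8 0 0, .cnt 25 9 0 1, .cnt 25 10 0 0, .cnt 26 11 0 1, .cnt 15 12 0 0, .cnt 9 13 0 0, .cnt 10 14 0 1, .cnt 51 13 0 0, .cnt 11 15 0 0,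 .cnt 54 14 0 0, .base 9 1571 1 [0], .base 10 2163 1 [0], .base 11 597 1 [0], .base 12 2260 1 [0], .base 32 948 1 [0], .base 33 211 1 [0], .base 34 1765 1 [0], .base 14 226 1 [0], .base 18 762 1 [0], .base 23 1129 1 [0], .base 40 1713 1 [0], .base 26 1086 1 [0], .base 27 236 1 [0], .base 27 1716 1 [0], .base 40 1298 1 [0], .base 40 1458 1 [0], .fin [82188, 986272, 875254, 2301177, 1434083, 4111695, 1572960, 2627872, 3431966, 2671842, 224802, 551489, 4102339, 3496305, 656778, 616547, 1043073, 2578658, 3969446, 3591130, 622321, 301149]]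

theorem k2 : chkW w2 2 s2 = true := by decide +kernel

theorem b2 : prodB s2 = 1474560 := by decide +kernel

/-- 3: order 2, 41287680 -/
def w3 : List ℕ := [1, 0, 1, 0, 1, 0, 1, 0]

def s3 : List Step := [.fixd 0 1 0, .fixd 1 1 1, .cnt 1 0 0 84, .cnt 2 1 0 112, .base 2 46 140 [0], .and 3 0, .andn 4 1, .andn 4 2, .andn 7 3, .andn 0 5, .cnt 4 2 0 28, .cnt 1 3 0 0, .base 0 278 3 [0], .and 3 0, .andn 4 1, .and 9 2, .andn 10 3, .andn 6 5, .cnt 11 4 0 128, .cnt 12 5 0 192, .base 2 925 2 [0], .and 7 0, .andn 8 1, .and 8 2, .cnt 6 2 0 128, .base 6 105 16 [0], .and 14 0, .andn 15 1, .and 7 2, .and 7 3, .andn 7 4, .andn 16 5, .andn 8 6, .cnt 5 4 0 64, .cnt 6 5 0 96, .cnt 3 6 0 96, .cnt 3 7 0 32, .base 6 301 128 [0, 1], .and 13 1, .andn 7 2, .and 7 3, .and 13 4, .andn 14 5, .andn 14 6, .andn 10 7, .and 10 8, .andn 11 9, .and 8 9, .and 8 10, .andn 8 11, .and 8 12, .andn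 8 13, .andn 8 14, .and 8 15, .andn 1 18, .cnt 7 8 0 0, .cnt 5 9 0 0, .cnt 5 10 0 1, .cnt 3 11 0 1, .cnt 1 9 0 0, .cnt 4 6 0 2, .cnt 5 7 0 4, .cnt 3 5 0 4, .base 0 1438 24 [0, 1], .and 5 1, .andn 6 2, .and 6 3, .andn 20 4, .andn 20 5, .andn 11 6, .andn 26 7, .and 6 7, .andn 7 8, .and 7 9, .andn 8 10, .and 8 11, .cnt 4 8 0 0, .cnt 5 9 0 1, .cnt 4 10 0 0, .cnt 3 11 0 0, .cnt 25 12 0 0, .cnt 4 12 0 0, .cnt 5 13 0 1, .cnt 10 14 0 0, .cnt 11 15 0 1, .cnt 6 16 0 0, .cnt 6 17 0 0, .cnt 5 17 0 0, .cnt 6 18 0 1, .cnt 2 18 0 0, .cnt 2 15 0 0, .cnt 3 16 0 1, .base 1 538 1 [0, 1], .base 3 884 1 [0, 1], .base 9 1482 1 [0, 1], .base 18 1832 1 [0], .base 25 1079 1 [0], .base 21 2277 1 [0, 1], .base 23 1983 1 [0], .base 24 178 1 [0], .base 22 1057 1 [0], .base 33 637 1 [0], .fin [1139655, 545432, 1381648, 2674324, 3397275, 430045, 3595629, 2427289, 1647927, 307231, 865420, 2283328,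 3653237, 1671209, 4190702, 1968224, 1186717, 3079649, 1861521, 3901506, 681443, 2284815]]

theorem k3 : chkW w3 2 s3 = true := by decide +kernel

theorem b3 : prodB s3 = 41287680 := by decide +kernel

/-- 4: order 3, 466560 -/
def w4 : List ℕ := [1, 2, 0, 2, 0, 1, 0, 2, 0, 1, 2, 1, 1, 0, 2, 0, 1, 0, 2, 0]

def s4 : List Step := [.fixd 0 1 0, .self 0 1 0, .self 1 1 1, .base 1 20 1215 [0, 1, 2], .and 5 2, .andn 6 3, .andn 6 4, .and 2 4, .andn 3 5, .andn 3 6, .andn 3 7, .and 3 7, .andn 4 8, .and 4 9, .andn 4 10, .and 4 11, .andn 1 15, .cnt 5 0 0 26, .cnt 6 1 0 38, .cnt 2 2 0 16, .cnt 0 7 0 32, .cnt 1 8 0 48, .cnt 1 8 0 32, .base 1 1239 16 [0, 1], .and 8 1, .and 8 2, .and 15 3, .andn 16 4, .and 16 5, .andn 17 6, .andn 9 7, .andn 17 8, .and 7 8, .andn 8 9, .and 8 10, .andn 8 11, .and 8 12, .andn 9 13, .and 9 14, .andn 9 15, .andn 20 16, .and 9 17, .andn 1 20, .cnt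 8 0 0 3, .cnt 11 7 0 4, .cnt 12 8 0 8, .cnt 15 9 0 0, .cnt 0 8 0 8, .cnt 14 6 0 4, .base 13 576 24 [0, 1], .and 7 1, .and 7 2, .and 5 3, .and 11 4, .and 19 5, .and 19 6, .andn 19 7, .and 19 8, .and 12 9, .andn 13 10, .and 9 10, .and 9 11, .and 9 12, .and 9 13, .andn 9 14, .and 9 15, .and 9 16, .andn 9 17, .and 8 18, .cnt 8 10 0 0, .cnt 8 11 0 0, .cnt 8 12 0 0, .cnt 8 13 0 0, .cnt 3 8 0 0, .cnt 4 9 0 1, .cnt 2 10 0 0, .cnt 5 10 0 0, .cnt 3 10 0 0, .cnt 3 11 0 1, .cnt 7 12 0 0, .cnt 4 13 0 0, .cnt 4 13 0 0, .cnt 4 13 0 0, .cnt 5 14 0 1, .cnt 5 15 0 0, .base 2 2128 1 [0, 1, 2], .base 5 1252 1 [0, 1, 2], .base 8 1560 1 [0, 1, 2], .base 15 1584 1 [0, 1], .base 20 714 1 [0, 1], .base 22 748 1 [0, 1], .fin [2695006, 2159801, 32768, 1325932, 715535, 60695, 165459, 1999546, 1358108, 1664825, 1795735, 884121, 3494590, 3670114, 3633747, 2885724, 1758821, 1044583, 979128,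 1594988, 3941827, 3775508]]

theorem k4 : chkW w4 3 s4 = true := by decide +kernel

theorem b4 : prodB s4 = 466560 := by decide +kernel

/-- 5: order 3, 155520 -/
def w5 : List ℕ := [2, 0, 2, 0]

def s5 : List Step := [.fixd 0 1 0, .fixd 1 1 1, .self 1 1 0, .cnt 0 1 0 21, .cnt 1 2 0 24, .cnt 2 3 0 40, .cnt 4 4 0 13, .base 2 772 810 [0, 1, 2], .and 7 2, .andn 8 3, .and 8 4, .andn 9 5, .and 9 6, .andn 10 7, .and 10 8, .andn 11 9, .and 7 9, .andn 8 10, .and 8 11, .and 8 12, .andn 8 13, .and 8 14, .andn 8 15, .and 6 15, .andn 7 16, .and 7 17, .andn 8 18, .andn 8 19, .and 8 20, .andn 8 21, .andn 0 25, .cnt 0 8 0 0, .cnt 8 16 0 8, .cnt 1 17 0 0, .cnt 2 18 0 8, .cnt 20 19 0 8, .cnt 3 0 0 0, .cnt 4 1 0 6, .cnt 4 16 0 16, .cnt 4 17 0 0, .base 11 670 192 [0, 1, 2], .and 7 2, .and 7 3, .and 21 4, .andn 22 5, .and 22 6, .andn 23 7, .and 23 8, .and 23 9, .and 13 10, .and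 13 11, .and 9 11, .andn 10 12, .and 10 13, .and 10 14, .andn 11 15, .and 11 16, .andn 12 17, .andn 12 18, .and 12 19, .andn 12 20, .andn 12 21, .and 10 21, .andn 11 22, .andn 11 23, .and 11 24, .and 11 25, .andn 11 26, .andn 11 27, .and 11 28, .andn 11 29, .andn 11 30, .andn 11 31, .andn 11 32, .cnt 7 24 0 0, .cnt 7 25 0 0, .cnt 7 26 0 0, .cnt 7 27 0 0, .cnt 7 28 0 0, .cnt 7 29 0 0, .cnt 7 30 0 1, .cnt 7 31 0 1, .cnt 7 31 0 0, .cnt 7 32 0 1, .cnt 5 33 0 0, .cnt 21 8 0 0, .cnt 22 9 0 1, .cnt 22 10 0 0, .cnt 22 11 0 0, .cnt 23 12 0 1, .cnt 7 13 0 0, .cnt 3 13 0 0, .cnt 3 14 0 0, .cnt 4 15 0 1, .cnt 4 16 0 0, .cnt 4 17 0 0, .cnt 10 16 0 0, .cnt 11 17 0 1, .cnt 35 17 0 0, .cnt 5 18 0 0, .cnt 5 19 0 0, .cnt 1 19 0 0, .cnt 9 18 0 0, .cnt 0 18 0 0, .base 5 2037 1 [0, 1, 2], .base 11 898 1 [0, 1, 2], .base 14 792 1 [0], .base 27 2284 1 [0], .base 24 2039 1 [0], .base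 14 1414 1 [0, 1, 2], .base 20 1358 1 [0], .base 23 611 1 [0], .base 30 1169 1 [0, 1], .fin [2830535, 928362, 2200260, 1468703, 1937566, 33978, 3158708, 3713135, 997421, 1780193, 756685, 1469471, 3057414, 727836, 3146600, 766897, 1628932, 552403, 1645297, 3068468, 3429336, 3679288]]

theorem k5 : chkW w5 3 s5 = true := by decide +kernel

theorem b5 : prodB s5 = 155520 := by decide +kernel

end Cfsg.Agent.H633.Ore.Co2.C0
end

-- part: H633/Ore/Co2F0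
section
/-!
# Invariants and entries of the list of classes of `Co2` (helper633)
-/

set_option autoImplicit false

namespace Cfsg.Agent.H633.Ore.Co2

theorem f1 : chkF C0.w1 2300 284 284 2300 284 = true := by decide +kernel

theorem g1 : GE C0.w1 56925 (2300, 284, 284, 2300, 284) :=
  ge_real 56925 f1 C0.k1 C0.b1 (by decide +kernel)

theorem f2 : chkF C0.w2 2300 52 52 2300 52 = true := by decide +kernel

theorem g2 : GE C0.w2 28690200 (2300, 52, 52, 2300, 52) :=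
  ge_real 28690200 f2 C0.k2 C0.b2 (by decide +kernel)

theorem f3 : chkF C0.w3 2300 140 140 2300 140 = true := by decide +kernel

theorem g3 : GE C0.w3 1024650 (2300, 140, 140, 2300, 140) :=
  ge_real 1024650 f3 C0.k3 C0.b3 (by decide +kernel)

theorem f4 : chkF C0.w4 5 5 2300 5 2300 = true := by decide +kernel

theorem g4 : GE C0.w4 90675200 (5, 5, 2300, 5, 2300) :=
  ge_real 90675200 f4 C0.k4 C0.b4 (by decide +kernel)

theorem f5 : chkF C0.w5 41 41 2300 41 2300 = true := by decide +kernel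

theorem g5 : GE C0.w5 272025600 (41, 41, 2300, 41, 2300) :=
  ge_real 272025600 f5 C0.k5 C0.b5 (by decide +kernel)

theorem f6 : chkF C1.w6 2300 40 40 140 40 = true := by decide +kernel

theorem g6 : GE C1.w6 344282400 (2300, 40, 40, 140, 40) :=
  ge_real 344282400 f6 C1.k6 C1.b6 (by decide +kernel)

theorem f7 : chkF C1.w7 2300 4 4 284 4 = true := by decide +kernel

theorem g7 : GE C1.w7 860706000 (2300, 4, 4, 284, 4) :=
  ge_real 860706000 f7 C1.k7 C1.b7 (by decide +kernel)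

theorem f8 : chkF C1.w8 2300 0 0 52 0 = true := by decide +kernel

theorem g8 : GE C1.w8 33051110400 (2300, 0, 0, 52, 0) :=
  ge_real 33051110400 f8 C1.k8 C1.b8 (by decide +kernel)

theorem f9 : chkF C1.w9 2300 12 12 140 12 = true := by decide +kernel

theorem g9 : GE C1.w9 6885648000 (2300, 12, 12, 140, 12) :=
  ge_real 6885648000 f9 C1.k9 C1.b9 (by decide +kernel)

theorem f10 : chkF C1.w10 2300 16 16 140 16 = true := by decide +kernel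

theorem g10 : GE C1.w10 6885648000 (2300, 16, 16, 140, 16) :=
  ge_real 6885648000 f10 C1.k10 C1.b10 (by decide +kernel)

theorem f11 : chkF C2.w11 2300 32 32 140 32 = true := by decide +kernel

theorem g11 : GE C2.w11 573804000 (2300, 32, 32, 140, 32) :=
  ge_real 573804000 f11 C2.k11 C2.b11 (by decide +kernel)

end Cfsg.Agent.H633.Ore.Co2
end
end

-- part: H633/Ore/Co2C3
section
set_option linter.all false

/-!
# Certificates for the centralizers in `Co2` (helper633)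
-/

set_option autoImplicit false

namespace Cfsg.Agent.H633.Ore.Co2.C3

/-- 16: order 6, 288 -/
def w16 : List ℕ := [0, 2, 1, 0, 1, 0, 2, 0, 1, 2, 0, 1, 0, 2, 0, 1, 0, 1]

def s16 : List Step := [.self 0 1 0, .self 1 1 1, .self 1 2 0, .self 2 2 1, .self 2 2 0, .self 2 3 0, .self 3 3 1, .self 2 3 1, .cnt 2 4 0 120, .cnt 3 5 0 128, .cnt 4 6 0 176, .cnt 5 7 0 192, .cnt 5 8 0 128, .cnt 9 9 0 104, .cnt 6 10 0 140, .cnt 7 11 0 144, .cnt 6 4 0 0, .cnt 7 5 0 2, .cnt 1 7 0 0, .cnt 2 8 0 12, .base 0 777 12 [0, 1, 2], .and 6 2, .andn 12 3, .and 12 4, .andn 13 5, .andn 13 6, .andn 13 7, .andn 4 7, .and 3 8, .and 3 9, .and 0 9, .andn 14 13, .cnt 0 5 0 4, .cnt 9 6 0 0, .cnt 5 7 0 0, .cnt 4 8 0 3, .cnt 30 2 0 0, .cnt 21 3 0 0, .cnt 5 4 0 0, .cnt 17 5 0 0, .cnt 18 6 0 2, .cnt 4 6 0 0, .cnt 4 7 0 0, .cnt 4 8 0 0, .cnt 3 9 0 0, .cnt 9 17 0 1, .base 0 1962 24 [0, 1, 2, 3, 4,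 5], .and 11 5, .and 11 6, .and 11 7, .and 16 8, .and 12 9, .and 4 9, .andn 1 10, .and 1 10, .andn 2 11, .and 5 12, .and 0 12, .andn 1 13, .cnt 9 5 0 0, .cnt 10 6 0 1, .cnt 3 7 0 0, .base 7 799 1 [0, 1, 2, 3, 4], .base 12 610 1 [0, 1], .base 22 1739 1 [0, 1], .base 14 2047 1 [0], .base 15 1127 1 [0], .base 16 881 1 [0], .base 21 192 1 [0], .fin [2554051, 2470753, 4110540, 2283899, 495808, 2856717, 2923873, 3266751, 4099373, 2313697, 3633703, 3186269, 3201759, 1935337, 1617068, 16384, 1684678, 3059802, 99203, 324893, 3891288, 1566999]]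

theorem k16 : chkW w16 6 s16 = true := by decide +kernel

theorem b16 : prodB s16 = 288 := by decide +kernel

/-- 17: order 6, 5184 -/
def w17 : List ℕ := [1, 2, 0, 1, 0, 1, 2, 1, 2, 1, 0, 1, 0, 2]

def s17 : List Step := [.fixd 0 3 0, .fixd 1 3 1, .fixd 0 2 0, .fixd 1 2 1, .self 3 1 0, .self 2 1 0, .self 3 1 1, .self 2 2 0, .self 3 2 1, .cnt 3 3 0 76, .cnt 6 3 0 36, .base 0 1507 4 [0], .and 4 0, .andn 5 1, .and 5 2, .andn 6 3, .and 10 4, .andn 11 5, .base 0 1494 108 [0, 1, 2], .and 15 2, .and 10 3, .andn 11 4, .and 11 5, .and 11 6, .and 11 7, .andn 12 8, .and 12 9, .andn 13 10, .and 8 10, .and 8 11, .andn 8 12, .and 8 13, .andn 9 14, .and 9 15, .and 9 16, .andn 9 17, .andn 9 18, .and 9 19, .and 6 19, .and 6 20, .andn 7 21, .and 7 22, .cnt 13 7 0 2, .cnt 13 8 0 4, .cnt 13 9 0 6, .cnt 6 10 0 2, .cnt 6 11 0 4, .cnt 6 12 0 0, .cnt 11 13 0 0, .cnt 11 14 0 0, .cnt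 7 0 0 0, .cnt 8 1 0 1, .cnt 8 2 0 0, .cnt 7 3 0 0, .cnt 7 4 0 1, .cnt 2 6 0 0, .cnt 3 7 0 1, .cnt 15 12 0 0, .cnt 16 13 0 2, .cnt 23 14 0 2, .cnt 1 12 0 2, .cnt 9 3 0 1, .cnt 0 2 0 1, .cnt 0 2 0 1, .base 19 426 2 [0, 1, 2, 3, 4], .and 13 4, .and 17 5, .and 17 6, .and 22 6, .cnt 10 3 0 1, .cnt 11 4 0 3, .cnt 20 3 0 3, .base 0 835 6 [0, 1, 2, 3], .and 8 3, .and 7 4, .and 12 5, .and 10 5, .and 3 5, .andn 4 6, .cnt 1 4 0 0, .base 0 1765 1 [0, 1, 2, 3], .base 6 552 1 [0, 1], .base 11 1940 1 [0, 1], .base 15 883 1 [0], .fin [2306991, 85489, 1413424, 1142367, 1624426, 3225849, 757640, 2881960, 623970, 365834, 1003667, 3120406, 1253532, 440988, 925623, 52719, 2701363, 270911, 2847336, 100854, 1382269, 1843459]]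

theorem k17 : chkW w17 6 s17 = true := by decide +kernel

theorem b17 : prodB s17 = 5184 := by decide +kernel

/-- 18: order 6, 576 -/
def w18 : List ℕ := [2, 0, 1, 0, 1, 2, 1, 0, 1, 0]

def s18 : List Step := [.self 0 1 0, .self 0 2 0, .self 1 2 1, .cnt 1 0 0 64, .cnt 2 1 0 96, .cnt 3 2 0 112, .cnt 4 3 0 120, .cnt 5 4 0 128, .cnt 2 4 0 0, .cnt 3 5 0 3, .cnt 2 6 0 2, .cnt 2 1 0 32, .cnt 3 2 0 48, .cnt 6 3 0 36, .cnt 11 4 0 48, .cnt 10 0 0 16, .cnt 2 1 0 24, .base 13 1707 3 [0, 1, 2], .and 10 2, .andn 11 3, .and 8 4, .andn 9 5, .andn 3 5, .and 1 6, .cnt 11 3 0 0, .cnt 16 4 0 8, .cnt 16 5 0 0, .cnt 20 6 0 8, .cnt 2 4 0 8, .cnt 1 5 0 8, .cnt 2 6 0 16, .base 4 1712 4 [0, 1], .and 5 1, .and 5 2, .andn 5 3, .and 14 4, .and 18 5, .and 1 5, .and 1 6, .cnt 27 6 0 2, .base 5 2120 12 [0, 1, 2, 3], .and 22 3, .and 13 4, .and 13 5, .andn 14 6, .and 9 7, .and 12 8, .and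 12 9, .and 4 9, .and 2 10, .and 2 11, .and 1 11, .and 1 12, .cnt 1 8 0 1, .cnt 1 9 0 1, .base 12 1742 2 [0, 1, 2], .and 5 2, .andn 6 3, .and 6 4, .cnt 13 2 0 1, .cnt 14 3 0 2, .cnt 18 4 0 2, .cnt 23 3 0 0, .base 5 1897 2 [0, 1, 2, 3], .and 5 3, .and 8 4, .and 8 5, .and 11 5, .base 3 2286 1 [0, 1, 2], .base 4 1802 1 [0], .base 8 1733 1 [0], .base 9 707 1 [0], .fin [3942307, 4104378, 1530161, 1217336, 2810633, 1267957, 946488, 2527659, 2417558, 2796246, 2839372, 541982, 4095288, 3092741, 1412802, 1574912, 1241901, 1579182, 117418, 2557835, 16044, 2763320]]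

theorem k18 : chkW w18 6 s18 = true := by decide +kernel

theorem b18 : prodB s18 = 576 := by decide +kernel

/-- 19: order 6, 4320 -/
def w19 : List ℕ := [1, 0, 1, 0, 2, 1, 0, 1, 0, 2, 1, 2, 0, 1, 0, 1, 2, 0, 1, 0]

def s19 : List Step := [.fixd 0 3 0, .fixd 1 3 1, .fixd 1 2 0, .fixd 2 2 1, .fixd 2 2 1, .self 2 2 0, .self 3 2 1, .self 1 1 0, .cnt 0 3 0 4, .cnt 2 4 0 7, .base 1 26 180 [0, 1, 2, 3], .and 6 3, .andn 7 4, .andn 7 5, .andn 14 6, .and 3 6, .andn 3 7, .and 3 8, .and 3 9, .andn 4 10, .and 4 10, .andn 5 11, .andn 5 12, .and 5 13, .and 2 13, .and 2 14, .and 2 15, .cnt 2 8 0 4, .cnt 3 9 0 8, .cnt 2 3 0 8, .base 10 2082 2 [0], .and 11 0, .andn 12 1, .and 4 2, .base 0 1062 12 [0, 1, 2, 3, 4, 5], .and 9 5, .andn 10 6, .andn 10 7, .and 17 8, .and 17 9, .and 3 9, .andn 1 10, .and 3 10, .cnt 0 5 0 0, .cnt 3 2 0 0, .cnt 4 3 0 1, .base 10 17 1 [0, 1, 2], .base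 5 1387 1 [0, 1, 2, 3], .base 9 946 1 [0, 1], .base 14 1239 1 [0, 1], .fin [1220207, 978948, 179730, 1395860, 2840336, 2791202, 181501, 4016214, 4047935, 3084324, 2491757, 1395148, 3080723, 1904495, 3384053, 846257, 3368491, 3037118, 3248521, 2328387, 4107776, 2856070]]

theorem k19 : chkW w19 6 s19 = true := by decide +kernel

theorem b19 : prodB s19 = 4320 := by decide +kernel

/-- 20: order 6, 5760 -/
def w20 : List ℕ := [0, 2, 1, 2, 1, 2, 1, 0, 2, 0, 2, 2, 1, 2, 0, 2, 0, 2, 0, 1, 2, 1]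

def s20 : List Step := [.fixd 0 3 0, .fixd 1 3 1, .fixd 0 2 0, .self 2 1 0, .self 1 1 0, .self 2 1 1, .self 2 2 0, .self 3 2 1, .base 0 2244 960 [0, 1, 2, 3, 4], .and 7 4, .andn 8 5, .and 8 6, .and 12 7, .andn 13 8, .andn 13 9, .and 5 9, .andn 6 10, .and 6 11, .and 6 12, .andn 7 13, .and 7 14, .andn 8 15, .and 8 16, .andn 9 17, .and 9 18, .and 9 18, .andn 10 19, .andn 10 20, .and 10 21, .and 10 22, .andn 10 23, .and 10 24, .andn 10 25, .andn 10 26, .andn 9 27, .and 9 27, .andn 9 28, .andn 9 29, .andn 9 30, .and 9 31, .andn 10 32, .and 10 33, .and 6 33, .andn 7 34, .andn 7 35, .andn 7 36, .and 6 37, .andn 7 38, .and 7 39, .and 7 40, .cnt 3 26 0 0, .cnt 3 27 0 1, .cnt 3 28 0 0, .cnt 3 29 0 0, .cnt 19 30 0 1, .cnt 3 21 0 1, .cnt 2 22 0 0, .cnt 1 24 0 1, .cnt 15 19 0 0, .cnt 16 20 0 2, .cnt 16 21 0 0, .cnt 2 15 0 0, .cnt 2 16 0 2, .cnt 12 18 0 2, .cnt 0 32 0 1,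 .cnt 2 8 0 1, .cnt 1 9 0 0, .cnt 5 14 0 0, .base 22 1092 2 [0, 1, 2, 3, 4], .and 13 4, .and 8 5, .and 18 6, .cnt 11 0 0 1, .cnt 12 1 0 3, .cnt 24 2 0 3, .base 0 1155 3 [0, 1, 2], .and 16 2, .and 7 3, .andn 7 4, .and 11 5, .and 3 5, .and 3 6, .andn 15 6, .and 3 7, .cnt 1 5 0 0, .base 4 337 1 [0, 1, 2, 3], .base 8 1074 1 [0, 1], .base 8 829 1 [0], .base 11 76 1 [0, 1], .fin [2995601, 2533530, 2025841, 3812840, 1891908, 1053532, 852736, 1447445, 428962, 2892509, 2911736, 2738504, 1418616, 595294, 851585, 2470660, 713976, 3297257, 680774, 3090978, 1027132, 1632799]]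

theorem k20 : chkW w20 6 s20 = true := by decide +kernel

theorem b20 : prodB s20 = 5760 := by decide +kernel

end Cfsg.Agent.H633.Ore.Co2.C3
end
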