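import Cfsg.Agent.H633.Ore.Co2Fix_m3
import Cfsg.Agent.H633.Ore.Co2F2
import Cfsg.Agent.H633.Ore.Co2C7_m3
set_option linter.all false

-- part: H633/Ore/Co2C8
section
set_option linter.all false

/-!
# Certificates for the centralizers in `Co2` (helper633)
-/

set_option autoImplicit false

namespace Cfsg.Agent.H633.Ore.Co2.C8

/-- 41: order 14, 56 -/
def w41 : List ℕ := [1, 0, 2, 1, 2, 0, 1, 0, 2, 1, 2, 0]

def s41 : List Step := [.self 0 5 0, .self 0 4 0, .self 0 1 0, .self 1 1 1, .self 0 6 0, .self 1 6 1, .self 3 2 0, .self 4 2 1, .self 2 2 0, .cnt 2 0 0 13, .cnt 3 1 0 18, .cnt 4 2 0 21, .cnt 5 3 0 28, .cnt 0 8 0 40, .cnt 0 6 0 16, .base 0 1071 7 [0, 1, 2, 3, 4, 5, 6], .and 12 6, .andn 13 7, .and 1 7, .andn 2 8, .and 2 9, .and 2 9, .andn 3 10, .and 3 11, .andn 3 12, .and 2 12, .andn 3 13, .and 3 14, .andn 4 15, .and 4 16, .andn 5 17, .and 9 17, .andn 10 18, .cnt 30 7 0 0, .cnt 31 8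 0 2, .cnt 0 8 0 0, .cnt 0 8 0 0, .cnt 3 8 0 0, .cnt 1 8 0 0, .cnt 1 8 0 0, .base 35 2188 4 [0], .and 2 0, .and 4 1, .and 12 2, .and 12 3, .base 1 1617 2 [0, 1, 2, 3, 4, 5, 6], .and 8 6, .base 12 569 1 [0], .base 13 1650 1 [0, 1, 2], .base 6 1669 1 [0, 1, 2], .fin [2260936, 1635394, 3517918, 372256, 802226, 3368841, 3866630, 2850747, 2001263, 2707597, 3035276, 1392624, 2984094, 1067332, 1847291, 1966313, 957593, 3293442, 3451984, 1110244, 2336205, 3676907]]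

theorem k41 : chkW w41 14 s41 = true := by decide +kernel

theorem b41 : prodB s41 = 56 := by decide +kernel

/-- 42: order 14, 28 -/
def w42 : List ℕ := [0, 2, 1, 0, 1, 0, 2, 1, 2, 0, 1, 2, 0, 1, 0, 1]

def s42 : List Step := [.cnt 3 5 0 6, .cnt 4 6 0 8, .cnt 5 7 0 12, .cnt 6 8 0 14, .cnt 7 9 0 16, .cnt 8 10 0 20, .cnt 9 11 0 22, .cnt 10 12 0 24, .cnt 6 5 0 8, .cnt 7 6 0 12, .cnt 6 7 0 0, .cnt 6 8 0 4, .cnt 1 6 0 0, .cnt 0 12 0 0, .cnt 1 13 0 7, .base 15 1938 28 [0, 1], .and 17 1, .and 10 2, .and 10 3, .andn 7 4, .and 7 5, .and 11 6, .andn 17 7, .andn 17 8, .andn 28 9, .and 32 10, .and 9 10, .andn 10 11, .and 9 12, .andn 10 13, .and 8 14, .and 6 15, .andn 6 16, .cnt 2 13 0 0, .cnt 11 14 0 0, .cnt 3 15 0 0, .cnt 4 16 0 1, .cnt 4 17 0 1, .cnt 11 17 0 0, .cnt 11 18 0 0, .cnt 12 19 0 1, .cnt 11 17 0 0, .cnt 12 18 0 1, .cnt 9 19 0 0, .cnt 10 20 0 1, .cnt 16 10 0 0, .cnt 17 11 0 1, .cnt 2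 12 0 0, .cnt 9 12 0 0, .cnt 10 13 0 1, .cnt 9 14 0 0, .cnt 10 15 0 1, .cnt 34 16 0 0, .cnt 6 17 0 0, .cnt 12 18 0 0, .cnt 13 19 0 1, .cnt 13 20 0 0, .cnt 7 20 0 0, .cnt 8 21 0 1, .cnt 0 21 0 0, .cnt 1 22 0 1, .cnt 15 23 0 0, .base 13 1793 1 [0, 1], .base 7 991 1 [0, 1], .base 8 1156 1 [0, 1], .base 10 1761 1 [0], .base 33 1751 1 [0, 1], .base 25 235 1 [0], .base 26 2120 1 [0], .base 27 1655 1 [0], .base 20 730 1 [0], .base 30 981 1 [0], .base 31 1340 1 [0], .base 32 562 1 [0], .base 33 693 1 [0], .base 71 2270 1 [0], .base 50 2178 1 [0], .base 48 356 1 [0], .fin [718223, 2485844, 3691208, 3524607, 4175241, 612201, 434368, 2881138, 1222963, 1439713, 3540784, 3806888, 233259, 265304, 2568177, 2139530, 1172680, 165765, 2215854, 3885954, 115439, 1127763]]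

def p42 : List Step := [.self 0 1 0, .self 0 2 0, .self 0 3 0, .self 1 3 1, .self 1 4 0, .self 1 4 0, .self 2 4 1, .self 2 5 0, .self 3 5 1, .self 2 5 0, .self 0 6 1]

theorem k42 : chkU2 w42 14 p42 s42 = true := by decide +kernel

theorem b42 : prodB s42 = 28 := by decide +kernel

/-- 43: order 15, 30 -/
def w43 : List ℕ := [1, 0, 2, 0, 0, 1, 0, 2, 1, 0, 2, 0, 1, 1, 2, 0, 1, 0]

def s43 : List Step := [.self 0 1 0, .self 0 2 0, .self 1 2 1, .self 1 3 0, .self 1 3 0, .self 2 3 1, .self 2 4 0, .self 3 4 1, .self 3 4 1, .self 3 4 0, .self 0 5 0, .self 0 6 0, .self 4 7 0, .self 5 7 1, .cnt 7 5 0 5, .cnt 8 6 0 7, .cnt 9 7 0 9, .cnt 10 8 0 15, .cnt 0 6 0 2, .cnt 1 7 0 10, .cnt 0 0 0 1, .cnt 8 1 0 2, .base 7 1965 6 [0, 1, 2], .and 11 2, .and 11 3, .and 7 4, .and 7 5, .andn 16 6, .and 22 7, .and 5 7, .and 5 8, .andn 4 9, .and 4 10, .cnt 0 7 0 0, .cnt 3 5 0 1, .cnt 4 6 0 3, .cnt 22 4 0 1, .base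 21 2236 5 [0, 1, 2, 3, 4], .and 6 4, .andn 10 5, .and 1 5, .cnt 11 1 0 0, .cnt 11 2 0 0, .base 18 1518 1 [0, 1], .base 4 1774 1 [0, 1, 2, 3], .base 8 1990 1 [0, 1, 2, 3], .base 15 116 1 [0, 1, 2, 3], .fin [4124769, 2378281, 3185846, 2238177, 3471244, 1383866, 3171920, 1052801, 1190774, 1827899, 54158, 2880656, 238282, 2734656, 695044, 118560, 2546518, 910016, 816304, 3557353, 1874717, 879741]]

theorem k43 : chkW w43 15 s43 = true := by decide +kernel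

theorem b43 : prodB s43 = 30 := by decide +kernel

/-- 44: order 15, 30 -/
def w44 : List ℕ := [1, 0, 2, 0, 0, 1, 2, 0, 2, 0, 1, 2, 1, 0]

def s44 : List Step := [.cnt 5 3 0 14, .cnt 6 4 0 22, .cnt 6 5 0 12, .cnt 7 6 0 18, .cnt 5 7 0 20, .cnt 5 8 0 12, .cnt 6 9 0 16, .cnt 7 10 0 20, .cnt 4 1 0 8, .cnt 4 1 0 4, .base 0 1549 30 [0], .and 11 0, .andn 12 1, .and 12 2, .andn 13 3, .and 13 4, .andn 14 5, .and 9 6, .andn 22 7, .andn 14 8, .andn 33 9, .cnt 9 1 0 2, .cnt 10 2 0 3, .cnt 10 3 0 1, .cnt 11 4 0 2, .cnt 11 5 0 1, .cnt 11 6 0 1, .cnt 11 7 0 0, .cnt 12 8 0 3, .cnt 12 9 0 3, .cnt 12 10 0 3, .cnt 12 11 0 2, .cnt 10 11 0 0, .cnt 11 12 0 1, .cnt 9 13 0 0, .cnt 10 14 0 1, .cnt 3 8 0 0, .cnt 4 9 0 1, .cnt 4 10 0 0, .cnt 5 11 0 1, .cnt 17 12 0 0, .cnt 18 13 0 1, .cnt 6 14 0 0, .cnt 7 15 0 1, .cnt 6 15 0 0, .cnt 7 16 0 1, .cnt 4 17 0 0, .cnt 5 18 0 1, .cnt 24 19 0 0, .cnt 25 20 0 1, .cnt 15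 21 0 0, .cnt 4 24 0 0, .cnt 5 25 0 1, .cnt 9 26 0 0, .cnt 6 24 0 0, .cnt 7 25 0 1, .cnt 19 30 0 0, .cnt 20 31 0 1, .cnt 19 32 0 0, .cnt 20 33 0 1, .cnt 7 34 0 0, .cnt 8 35 0 1, .cnt 7 36 0 0, .cnt 9 37 0 0, .cnt 10 38 0 1, .cnt 25 34 0 0, .cnt 26 35 0 1, .cnt 5 35 0 0, .cnt 6 36 0 1, .base 12 1855 1 [0], .base 13 571 1 [0], .base 28 2194 1 [0], .base 29 1265 1 [0], .base 18 1977 1 [0], .base 19 1635 1 [0], .base 15 973 1 [0], .base 16 1737 1 [0], .base 44 952 1 [0], .base 35 1344 1 [0], .base 28 360 1 [0], .base 23 1164 1 [0], .base 24 862 1 [0], .base 32 367 1 [0], .base 41 1316 1 [0], .base 50 615 1 [0], .base 51 1646 1 [0], .base 52 1451 1 [0], .base 62 1049 1 [0], .base 43 1434 1 [0], .base 44 189 1 [0], .fin [3905097, 2751660, 3903460, 737108, 2936382, 3302466, 2649076, 822299, 1584495, 2354791, 3221813, 3842266, 1461708, 790616, 2155804, 507419, 1436412, 16, 2418266, 1375997, 3671544,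 3612555]]

def p44 : List Step := [.fixd 0 5 0, .fixd 1 5 1, .self 1 1 0, .self 0 2 0, .self 1 2 1, .self 1 3 0, .self 2 3 1, .self 2 3 0, .self 2 4 0, .self 3 4 1, .self 3 4 0, .self 3 4 0, .self 0 5 0, .self 1 5 1]

theorem k44 : chkU w44 15 p44 s44 = true := by decide +kernel

theorem b44 : prodB s44 = 30 := by decide +kernel

/-- 45: order 16, 32 -/
def w45 : List ℕ := [2, 0, 1, 0, 1, 0, 0, 1, 0, 2, 0, 2, 0, 0, 1, 0, 1, 0, 2, 0, 2, 0, 2, 0, 1, 0]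

def s45 : List Step := [.self 0 1 0, .self 0 2 0, .self 1 2 1, .self 1 3 0, .self 2 3 1, .self 2 3 0, .self 2 4 0, .self 3 4 1, .self 2 4 0, .self 4 5 1, .self 0 6 0, .self 3 7 0, .cnt 5 5 0 0, .cnt 6 6 0 16, .cnt 1 5 0 32, .cnt 4 6 0 36, .base 1 1875 8 [0, 1, 2, 3, 4], .and 10 4, .and 0 4, .andn 1 5, .and 0 5, .and 0 5, .cnt 0 3 0 2, .cnt 12 4 0 2, .cnt 5 1 0 0, .cnt 1 2 0 2, .cnt 2 3 0 4, .cnt 18 1 0 1, .cnt 0 1 0 0, .base 3 693 2 [0, 3, 1, 2, 4, 5, 6, 7], .and 9 7, .and 14 7, .base 1 1938 2 [0, 1, 2, 3], .and 5 3, .base 0 1018 1 [0, 1, 2, 3, 4], .fin [2440672, 1898093, 4069333, 1544409, 468352, 4191248, 3243711, 1627930, 2703756, 1224403, 2669796, 1318383, 2176032, 1596838, 1605657, 1869577, 2954638, 1652283, 1910171, 2298792, 3896800, 3357546]]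

theorem k45 : chkW w45 16 s45 = true := by decide +kernel

theorem b45 : prodB s45 = 32 := by decide +kernel

end Cfsg.Agent.H633.Ore.Co2.C8
end

-- part: H633/Ore/Co2F3
section
set_option linter.all false

/-!
# Invariants and entries of the list of classes of `Co2` (helper633)
-/

set_option autoImplicit false

namespace Cfsg.Agent.H633.Ore.Co2

theorem f34 : chkF C6.w34 5 1 28 5 28 = true := by decide +kernel

theorem g34 : GE C6.w34 48964608000 (5, 1, 28, 5, 28) :=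
  ge_real 48964608000 f34 C6.k34 C6.b34 (by decide +kernel)

theorem f35 : chkF C6.w35 41 3 12 5 12 = true := by decide +kernel

theorem g35 : GE C6.w35 881362944000 (41, 3, 12, 5, 12) :=
  ge_real 881362944000 f35 C6.k35 C6.b35 (by decide +kernel)

theorem f36 : chkF C7.w36 5 1 16 5 16 = true := by decide +kernel

theorem g36 : GE C7.w36 881362944000 (5, 1, 16, 5, 16) :=
  ge_real 881362944000 f36 C7.k36 C7.b36 (by decide +kernel)

theorem f37 : chkF C7.w37 5 5 32 5 32 = true := by decide +kernel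

theorem g37 : GE C7.w37 146893824000 (5, 5, 32, 5, 32) :=
  ge_real 146893824000 f37 C7.k37 C7.b37 (by decide +kernel)

theorem f38 : chkF C7.w38 41 1 28 17 28 = true := by decide +kernel

theorem g38 : GE C7.w38 146893824000 (41, 1, 28, 17, 28) :=
  ge_real 146893824000 f38 C7.k38 C7.b38 (by decide +kernel)

theorem f39 : chkF C7.w39 41 1 40 5 40 = true := by decide +kernel

theorem g39 : GE C7.w39 440681472000 (41, 1, 40, 5, 40) :=
  ge_real 440681472000 f39 C7.k39 C7.b39 (by decide +kernel)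

theorem f40 : chkF C7.w40 5 1 4 5 4 = true := by decide +kernel

theorem g40 : GE C7.w40 440681472000 (5, 1, 4, 5, 4) :=
  ge_real 440681472000 f40 C7.k40 C7.b40 (by decide +kernel)

theorem f41 : chkF C8.w41 4 284 4 4 4 = true := by decide +kernel

theorem g41 : GE C8.w41 755453952000 (4, 284, 4, 4, 4) :=
  ge_real 755453952000 f41 C8.k41 C8.b41 (by decide +kernel)

theorem f42 : chkF C8.w42 4 140 0 4 0 = true := by decide +kernel

theorem o42 : ordT C8.w42 14 = true := by decide +kernel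

theorem g42 : GE C8.w42 3021815808000 (4, 140, 0, 4, 0) :=
  ge_cpx2 3021815808000 f42 (by norm_num) (by norm_num) (by norm_num) o42 C8.k42 C8.b42 (by decide +kernel)

theorem f43 : chkF C8.w43 1 1 10 41 2300 = true := by decide +kernel

theorem g43 : GE C8.w43 1410180710400 (1, 1, 10, 41, 2300) :=
  ge_real 1410180710400 f43 C8.k43 C8.b43 (by decide +kernel)

theorem f44 : chkF C8.w44 0 0 0 5 2300 = true := by decide +kernel

theorem g44 : GE C8.w44 2820361420800 (0, 0, 0, 5, 2300) :=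
  ge_cpx 2820361420800 f44 (by norm_num) C8.k44 C8.b44 (by decide +kernel)

end Cfsg.Agent.H633.Ore.Co2
end
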