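import Cfsg.Agent.H633.Ore.Co2Fix_m3
import Cfsg.Agent.H633.Ore.Co2F3
import Cfsg.Agent.H633.Ore.Co2C7_m3
import Cfsg.Agent.H633.Ore.Co2F0_m3
import Cfsg.Agent.H633.Ore.Co2C4_m3
import Cfsg.Agent.H633.Ore.Co2F2
import Cfsg.Agent.H494.F22.Lin_m3
import Cfsg.Agent.Prune
set_option linter.all false

-- part: H633/Ore/Co2C10
section
set_option linter.all false

/-!
# Certificates for the centralizers in `Co2` (helper633)
-/

set_option autoImplicit false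

namespace Cfsg.Agent.H633.Ore.Co2.C10

/-- 51: order 24, 24 -/
def w51 : List ℕ := [0, 2, 1, 0, 1, 2, 0, 1, 0, 2, 0, 0, 1, 0, 2, 1, 0, 1]

def s51 : List Step := [.self 0 1 0, .self 0 2 0, .self 1 2 1, .self 1 3 0, .self 2 3 1, .self 2 3 0, .self 2 4 0, .self 2 4 0, .self 2 4 0, .self 2 5 0, .self 1 5 0, .self 0 6 0, .self 1 6 1, .cnt 3 5 0 0, .cnt 4 6 0 4, .cnt 2 7 0 0, .cnt 1 0 0 1, .base 5 617 24 [0, 1, 2, 3, 4, 5, 6, 7, 8, 9, 10, 11, 12, 13, 14, 15, 16, 17], .and 22 17, .and 20 18, .and 1 18, .and 1 19, .and 1 19, .and 0 19, .base 0 1362 1 [0], .base 4 541 1 [0, 1, 2], .fin [3710531, 1925872, 1204827, 108879, 1684201, 198656, 169794, 2835198, 1344840, 564136, 4086922, 2666995, 1642074, 1472048, 312487, 4148747, 375609, 3361476, 274624, 65560, 2626013, 2451069]]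

theorem k51 : chkW w51 24 s51 = true := by decide +kernel

theorem b51 : prodB s51 = 24 := by decide +kernel

/-- 52: order 24, 24 -/
def w52 : List ℕ := [1, 0, 1, 0, 2, 0, 1, 0, 2, 0, 1, 0]

def s52 : List Step := [.self 0 7 0, .self 0 3 0, .self 0 1 0, .self 1 1 1, .self 1 9 0, .self 2 9 1, .self 2 9 0, .self 1 5 0, .self 1 5 0, .self 0 2 0, .self 0 6 1, .self 6 8 0, .self 7 8 1, .self 2 8 0, .cnt 2 6 0 8, .base 1 1233 24 [0, 1, 2, 3, 4, 5, 6, 8, 7, 9, 10, 11, 12, 13, 14, 15], .and 19 15, .and 25 16, .andn 26 17, .and 2 17, .and 2 18, .andn 3 19, .andn 3 20, .and 3 20, .and 3 21, .andn 3 22, .and 2 22, .and 2 23, .and 1 23, .and 1 24, .and 1 24, .and 1 25, .and 0 25, .and 2 25, .andn 3 26, .and 2 27, .cnt 37 13 0 0, .cnt 0 11 0 0, .base 0 249 1 [0], .base 6 1923 1 [0, 1], .base 8 2000 1 [0, 1], .base 10 1224 1 [0], .fin [3218200, 2136607, 3949592, 2337183,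 477895, 977504, 1574721, 1450921, 2516977, 1921788, 1921536, 3832867, 3591616, 2976236, 1220987, 2000320, 1409315, 1718501, 588515, 2948991, 2919200, 3002833]]

theorem k52 : chkW w52 24 s52 = true := by decide +kernel

theorem b52 : prodB s52 = 24 := by decide +kernel

/-- 53: order 28, 28 -/
def w53 : List ℕ := [1, 0, 2, 1, 2, 0]

def s53 : List Step := [.fixd 0 14 0, .self 0 1 0, .self 0 2 0, .self 0 4 0, .self 1 4 1, .self 0 5 0, .self 1 5 1, .self 0 9 1, .base 0 1451 28 [0, 1, 2, 3, 4, 5, 6, 7, 8, 9, 10, 11, 12, 13, 14, 15, 16, 17, 18], .and 24 18, .and 23 19, .and 1 19, .and 1 20, .and 1 20, .and 1 21, .and 1 21, .and 1 22, .and 0 22, .and 2 22, .and 1 23, .and 0 23, .and 0 23, .and 0 23, .base 4 2178 1 [0, 1], .base 3 2207 1 [0], .fin [2749321, 255384, 2593001, 2777418, 331723, 3039494, 2828622, 3378021, 2027577, 1967096, 2289677, 2081985, 2578806,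 2188539, 2841206, 122316, 3402083, 1228980, 3519443, 3293802, 2043072, 447218]]

theorem k53 : chkW w53 28 s53 = true := by decide +kernel

theorem b53 : prodB s53 = 28 := by decide +kernel

/-- 54: order 30, 30 -/
def w54 : List ℕ := [1, 0, 2, 0, 1, 2, 0, 1, 2, 1, 2, 1, 0, 2, 1, 0, 2, 0]

def s54 : List Step := [.fixd 0 15 0, .fixd 0 10 0, .fixd 0 6 0, .self 0 1 0, .self 0 2 0, .self 0 3 0, .self 1 3 1, .self 1 4 0, .self 1 5 1, .self 0 6 0, .base 0 672 30 [0, 1, 2, 3, 5, 4, 6, 7, 8, 9, 10, 11, 12, 13, 14, 15, 16, 17, 18, 19, 20], .and 24 20, .and 0 20, .and 0 20, .and 0 20, .and 0 20, .base 0 19 1 [0], .fin [1306519, 2617232, 29862, 8, 106974, 3158627, 3179090, 2328434, 3633982, 1442194, 2921993, 130026, 2128424, 2276795, 322157, 2838621, 1845757, 1839195, 2222209, 3575191, 3743168, 265672]]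

theorem k54 : chkW w54 30 s54 = true := by decide +kernel

theorem b54 : prodB s54 = 30 := by decide +kernel

/-- 55: order 30, 30 -/
def w55 : List ℕ := [0, 1, 2, 0, 1, 0, 2, 1, 2, 1, 0, 2, 1, 2, 0, 1, 0, 2]

def s55 : List Step := [.cnt 2 6 0 12, .cnt 3 7 0 16, .cnt 4 8 0 20, .base 1 375 15 [0], .and 6 0, .andn 7 1, .andn 7 2, .and 11 3, .and 15 4, .andn 9 5, .and 8 6, .andn 9 7, .cnt 7 5 0 0, .cnt 8 6 0 2, .cnt 9 7 0 4, .cnt 9 8 0 2, .cnt 8 9 0 6, .cnt 8 10 0 2, .cnt 8 11 0 0, .cnt 7 12 0 0, .cnt 6 0 0 0, .cnt 7 1 0 1, .cnt 7 2 0 0, .cnt 8 3 0 1, .cnt 3 5 0 0, .cnt 4 6 0 1, .cnt 4 7 0 0, .cnt 5 8 0 1, .cnt 12 9 0 1, .cnt 16 12 0 0, .cnt 17 13 0 2, .cnt 8 14 0 1, .cnt 9 15 0 2, .cnt 4 16 0 1, .cnt 5 17 0 2, .cnt 24 18 0 2, .cnt 9 0 0 0, .cnt 10 1 0 1, .base 20 1233 2 [0, 1], .and 11 1, .and 11 2, .and 18 3, .andn 19 4, .and 19 5, .and 9 6, .and 12 7, .cnt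 10 5 0 0, .cnt 21 6 0 0, .cnt 16 7 0 0, .cnt 19 6 0 0, .cnt 28 7 0 0, .cnt 20 6 0 0, .base 12 1324 1 [0, 1], .base 14 787 1 [0, 1], .base 16 1010 1 [0, 1], .base 17 809 1 [0, 1], .base 19 134 1 [0, 1], .base 20 1951 1 [0], .base 21 358 1 [0, 1], .base 22 425 1 [0, 1], .base 23 74 1 [0], .base 26 1349 1 [0], .base 30 588 1 [0], .base 35 927 1 [0], .fin [2048, 3495520, 2821689, 3339638, 3882718, 4066885, 3436705, 244154, 1406828, 510794, 85011, 4093557, 1909160, 1135394, 740143, 1359406, 1155433, 1995810, 3585094, 2547353, 2094961, 1760557]]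

def p55 : List Step := [.self 0 1 0, .self 0 2 0, .self 1 2 1, .self 1 3 0, .self 2 3 1, .self 2 3 0, .self 2 4 0, .self 2 4 0, .self 2 4 0, .self 2 5 0, .self 3 5 1, .self 2 5 1, .self 2 6 0, .self 3 6 1]

theorem k55 : chkU2 w55 30 p55 s55 = true := by decide +kernel

theorem b55 : prodB s55 = 30 := by decide +kernel

end Cfsg.Agent.H633.Ore.Co2.C10
end

-- part: H633/Ore/Co2F4
section
set_option linter.all false

/-!
# Invariants and entries of the list of classes of `Co2` (helper633)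
-/

set_option autoImplicit false

namespace Cfsg.Agent.H633.Ore.Co2

theorem f45 : chkF C8.w45 4 2 2 4 2 = true := by decide +kernel

theorem g45 : GE C8.w45 1322044416000 (4, 2, 2, 4, 2) :=
  ge_real 1322044416000 f45 C8.k45 C8.b45 (by decide +kernel)

theorem f46 : chkF C9.w46 4 0 0 0 0 = true := by decide +kernel

theorem g46 : GE C9.w46 1322044416000 (4, 0, 0, 0, 0) :=
  ge_real 1322044416000 f46 C9.k46 C9.b46 (by decide +kernel)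

theorem f47 : chkF C9.w47 2 2 284 2 5 = true := by decide +kernel

theorem g47 : GE C9.w47 2350301184000 (2, 2, 284, 2, 5) :=
  ge_real 2350301184000 f47 C9.k47 C9.b47 (by decide +kernel)

theorem f48 : chkF C9.w48 10 0 0 52 0 = true := by decide +kernel

theorem g48 : GE C9.w48 2115271065600 (10, 0, 0, 52, 0) :=
  ge_real 2115271065600 f48 C9.k48 C9.b48 (by decide +kernel)

theorem f49 : chkF C9.w49 0 0 0 140 40 = true := by decide +kernel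

theorem g49 : GE C9.w49 2115271065600 (0, 0, 0, 140, 40) :=
  ge_real 2115271065600 f49 C9.k49 C9.b49 (by decide +kernel)

theorem f50 : chkF C9.w50 0 0 0 0 0 = true := by decide +kernel

theorem g50 : GE C9.w50 3678732288000 (0, 0, 0, 0, 0) :=
  ge_cpx 3678732288000 f50 (by norm_num) C9.k50 C9.b50 (by decide +kernel)

theorem f51 : chkF C10.w51 17 1 4 1 4 = true := by decide +kernel

theorem g51 : GE C10.w51 1762725888000 (17, 1, 4, 1, 4) :=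
  ge_real 1762725888000 f51 C10.k51 C10.b51 (by decide +kernel)

theorem f52 : chkF C10.w52 5 1 10 5 10 = true := by decide +kernel

theorem g52 : GE C10.w52 1762725888000 (5, 1, 10, 5, 10) :=
  ge_real 1762725888000 f52 C10.k52 C10.b52 (by decide +kernel)

theorem f53 : chkF C10.w53 4 28 0 4 0 = true := by decide +kernel

theorem g53 : GE C10.w53 1510907904000 (4, 28, 0, 4, 0) :=
  ge_real 1510907904000 f53 C10.k53 C10.b53 (by decide +kernel)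

theorem f54 : chkF C10.w54 1 1 4 41 284 = true := by decide +kernel

theorem g54 : GE C10.w54 1410180710400 (1, 1, 4, 41, 284) :=
  ge_real 1410180710400 f54 C10.k54 C10.b54 (by decide +kernel)

theorem f55 : chkF C10.w55 0 0 0 5 140 = true := by decide +kernel

theorem o55 : ordT C10.w55 30 = true := by decide +kernel

theorem g55 : GE C10.w55 2820361420800 (0, 0, 0, 5, 140) :=
  ge_cpx2 2820361420800 f55 (by norm_num) (by norm_num) (by norm_num) o55 C10.k55 C10.b55 (by decide +kernel)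

end Cfsg.Agent.H633.Ore.Co2
end

-- part: H633/Ore/Co2Cover
section
set_option linter.all false
open scoped Cfsg.Agent.FastGrp

-- part: H633/Ore/Co2F1
section
/-!
# Invariants and entries of the list of classes of `Co2` (helper633)
-/

set_option autoImplicit false

namespace Cfsg.Agent.H633.Ore.Co2

theorem f12 : chkF C2.w12 2300 28 28 284 28 = true := by decide +kernel

theorem g12 : GE C2.w12 13662000 (2300, 28, 28, 284, 28) :=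
  ge_real 13662000 f12 C2.k12 C2.b12 (by decide +kernel)

theorem f13 : chkF C2.w13 0 0 0 2300 2300 = true := by decide +kernel

theorem g13 : GE C2.w13 14101807104 (0, 0, 0, 2300, 2300) :=
  ge_real 14101807104 f13 C2.k13 C2.b13 (by decide +kernel)

theorem f14 : chkF C2.w14 10 10 10 2300 2300 = true := by decide +kernel

theorem g14 : GE C2.w14 70509035520 (10, 10, 10, 2300, 2300) :=
  ge_real 70509035520 f14 C2.k14 C2.b14 (by decide +kernel)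

theorem f15 : chkF C2.w15 41 17 284 41 284 = true := by decide +kernel

theorem g15 : GE C2.w15 12241152000 (41, 17, 284, 41, 284) :=
  ge_real 12241152000 f15 C2.k15 C2.b15 (by decide +kernel)

theorem f16 : chkF C3.w16 41 7 52 41 52 = true := by decide +kernel

theorem g16 : GE C3.w16 146893824000 (41, 7, 52, 41, 52) :=
  ge_real 146893824000 f16 C3.k16 C3.b16 (by decide +kernel)

theorem f17 : chkF C3.w17 5 5 284 5 284 = true := by decide +kernel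

theorem g17 : GE C3.w17 8160768000 (5, 5, 284, 5, 284) :=
  ge_real 8160768000 f17 C3.k17 C3.b17 (by decide +kernel)

theorem f18 : chkF C3.w18 41 5 140 41 140 = true := by decide +kernel

theorem g18 : GE C3.w18 73446912000 (41, 5, 140, 41, 140) :=
  ge_real 73446912000 f18 C3.k18 C3.b18 (by decide +kernel)

theorem f19 : chkF C3.w19 41 11 284 41 284 = true := by decide +kernel

theorem g19 : GE C3.w19 9792921600 (41, 11, 284, 41, 284) :=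
  ge_real 9792921600 f19 C3.k19 C3.b19 (by decide +kernel)

theorem f20 : chkF C3.w20 5 5 140 5 140 = true := by decide +kernel

theorem g20 : GE C3.w20 7344691200 (5, 5, 140, 5, 140) :=
  ge_real 7344691200 f20 C3.k20 C3.b20 (by decide +kernel)

theorem f21 : chkF C4.w21 4 2300 4 4 4 = true := by decide +kernel

theorem g21 : GE C4.w21 755453952000 (4, 2300, 4, 4, 4) :=
  ge_real 755453952000 f21 C4.k21 C4.b21 (by decide +kernel)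

theorem f22 : chkF C4.w22 140 10 10 32 10 = true := by decide +kernel

theorem g22 : GE C4.w22 55085184000 (140, 10, 10, 32, 10) :=
  ge_real 55085184000 f22 C4.k22 C4.b22 (by decide +kernel)

end Cfsg.Agent.H633.Ore.Co2
end

-- part: H633/Ore/Co2Cover
section
/-!
# Representatives of the conjugacy classes of `Co2` (helper633)

`cover`: every element of `Co2` is conjugate to one of 56 explicit words in three involutions, or to the inverse of one.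
-/

set_option autoImplicit false

namespace Cfsg.Agent.H633.Ore.Co2

open Cfsg

/-- the data: word, number of elements, fixed points of the powers 4, 7, 9, 10, 15 -/
def data : List Dt := [
  ⟨[], 1, (2300, 2300, 2300, 2300, 2300)⟩,
  ⟨C0.w1, 56925, (2300, 284, 284, 2300, 284)⟩,
  ⟨C0.w2, 28690200, (2300, 52, 52, 2300, 52)⟩,
  ⟨C0.w3, 1024650, (2300, 140, 140, 2300, 140)⟩,
  ⟨C0.w4, 90675200, (5, 5, 2300, 5, 2300)⟩,
  ⟨C0.w5, 272025600, (41, 41, 2300, 41, 2300)⟩,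
  ⟨C1.w6, 344282400, (2300, 40, 40, 140, 40)⟩,
  ⟨C1.w7, 860706000, (2300, 4, 4, 284, 4)⟩,
  ⟨C1.w8, 33051110400, (2300, 0, 0, 52, 0)⟩,
  ⟨C1.w9, 6885648000, (2300, 12, 12, 140, 12)⟩,
  ⟨C1.w10, 6885648000, (2300, 16, 16, 140, 16)⟩,
  ⟨C2.w11, 573804000, (2300, 32, 32, 140, 32)⟩,
  ⟨C2.w12, 13662000, (2300, 28, 28, 284, 28)⟩,
  ⟨C2.w13, 14101807104, (0, 0, 0, 2300, 2300)⟩,
  ⟨C2.w14, 70509035520, (10, 10, 10, 2300, 2300)⟩,
  ⟨C2.w15, 12241152000, (41, 17, 284, 41, 284)⟩,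
  ⟨C3.w16, 146893824000, (41, 7, 52, 41, 52)⟩,
  ⟨C3.w17, 8160768000, (5, 5, 284, 5, 284)⟩,
  ⟨C3.w18, 73446912000, (41, 5, 140, 41, 140)⟩,
  ⟨C3.w19, 9792921600, (41, 11, 284, 41, 284)⟩,
  ⟨C3.w20, 7344691200, (5, 5, 140, 5, 140)⟩,
  ⟨C4.w21, 755453952000, (4, 2300, 4, 4, 4)⟩,
  ⟨C4.w22, 55085184000, (140, 10, 10, 32, 10)⟩,
  ⟨C4.w23, 82627776000, (284, 0, 0, 4, 0)⟩,
  ⟨C4.w24, 55085184000, (284, 4, 4, 28, 4)⟩,
  ⟨C4.w25, 661022208000, (140, 2, 2, 16, 2)⟩,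
  ⟨C5.w26, 165255552000, (140, 6, 6, 32, 6)⟩,
  ⟨C5.w27, 82627776000, (284, 4, 4, 4, 4)⟩,
  ⟨C5.w28, 783433728000, (2, 2, 2300, 2, 5)⟩,
  ⟨C5.w29, 1057635532800, (10, 2, 2, 2300, 52)⟩,
  ⟨C5.w30, 705090355200, (10, 4, 4, 2300, 284)⟩,
  ⟨C6.w31, 352545177600, (0, 0, 0, 2300, 140)⟩,
  ⟨C6.w32, 3845947392000, (1, 1, 1, 1, 1)⟩,
  ⟨C6.w33, 146893824000, (41, 5, 32, 5, 32)⟩,
  ⟨C6.w34, 48964608000, (5, 1, 28, 5, 28)⟩,
  ⟨C6.w35, 881362944000, (41, 3, 12, 5, 12)⟩,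
  ⟨C7.w36, 881362944000, (5, 1, 16, 5, 16)⟩,
  ⟨C7.w37, 146893824000, (5, 5, 32, 5, 32)⟩,
  ⟨C7.w38, 146893824000, (41, 1, 28, 17, 28)⟩,
  ⟨C7.w39, 440681472000, (41, 1, 40, 5, 40)⟩,
  ⟨C7.w40, 440681472000, (5, 1, 4, 5, 4)⟩,
  ⟨C8.w41, 755453952000, (4, 284, 4, 4, 4)⟩,
  ⟨C8.w42, 3021815808000, (4, 140, 0, 4, 0)⟩,
  ⟨C8.w43, 1410180710400, (1, 1, 10, 41, 2300)⟩,
  ⟨C8.w44, 2820361420800, (0, 0, 0, 5, 2300)⟩,
  ⟨C8.w45, 1322044416000, (4, 2, 2, 4, 2)⟩,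
  ⟨C9.w46, 1322044416000, (4, 0, 0, 0, 0)⟩,
  ⟨C9.w47, 2350301184000, (2, 2, 284, 2, 5)⟩,
  ⟨C9.w48, 2115271065600, (10, 0, 0, 52, 0)⟩,
  ⟨C9.w49, 2115271065600, (0, 0, 0, 140, 40)⟩,
  ⟨C9.w50, 3678732288000, (0, 0, 0, 0, 0)⟩,
  ⟨C10.w51, 1762725888000, (17, 1, 4, 1, 4)⟩,
  ⟨C10.w52, 1762725888000, (5, 1, 10, 5, 10)⟩,
  ⟨C10.w53, 1510907904000, (4, 28, 0, 4, 0)⟩,
  ⟨C10.w54, 1410180710400, (1, 1, 4, 41, 284)⟩,
  ⟨C10.w55, 2820361420800, (0, 0, 0, 5, 140)⟩]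

/-- the 56 words -/
def reps : List (List ℕ) := [
  [],
  [2, 1, 0, 2, 0, 2, 1, 0, 1, 2, 0, 1, 0, 2, 0, 1, 2, 0, 1, 2, 1, 0, 2, 1, 0, 2, 0, 1, 0, 2, 1, 0, 1, 2, 0, 2, 0, 1],
  [1, 0, 2, 1, 0, 1, 2, 0, 1, 0, 2, 1, 0, 1, 2, 0],
  [1, 0, 1, 0, 1, 0, 1, 0],
  [1, 2, 0, 2, 0, 1, 0, 2, 0, 1, 2, 1, 1, 0, 2, 0, 1, 0, 2, 0],
  [2, 0, 2, 0],
  [1, 0, 1, 2, 0, 1, 2, 1, 2, 1, 0, 1, 0, 1, 2, 1, 2, 1, 0, 2, 1, 0],
  [2, 0, 1, 0, 1, 0, 2, 1, 2, 0, 1, 2, 0, 1, 0, 2, 2, 1, 0, 2, 1, 2, 0, 1],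
  [1, 0, 1, 2, 1, 0, 2, 0, 2, 1, 2, 0, 2, 0, 1, 2, 1, 0],
  [2, 1, 0, 1, 2, 0, 1, 2, 1, 0, 2, 1, 0, 1],
  [2, 0, 1, 2, 1, 0],
  [1, 0, 1, 0],
  [2, 0, 1, 2, 0, 1, 2, 1, 2, 0, 2, 1, 0, 2, 0, 1, 2, 0, 2, 1, 2, 1, 0, 2, 1, 0],
  [1, 0, 2, 0, 1, 2, 0, 1, 0, 2, 1, 2, 0, 1, 0, 2, 1, 0, 2, 0],
  [2, 0, 2, 1, 2, 1, 2, 0],
  [1, 0, 2, 0, 1, 2, 1, 0, 1, 2, 0, 1, 0, 2, 1, 0, 1, 2, 1, 0, 2, 0],
  [0, 2, 1, 0, 1, 0, 2, 0, 1, 2, 0, 1, 0, 2, 0, 1, 0, 1],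
  [1, 2, 0, 1, 0, 1, 2, 1, 2, 1, 0, 1, 0, 2],
  [2, 0, 1, 0, 1, 2, 1, 0, 1, 0],
  [1, 0, 1, 0, 2, 1, 0, 1, 0, 2, 1, 2, 0, 1, 0, 1, 2, 0, 1, 0],
  [0, 2, 1, 2, 1, 2, 1, 0, 2, 0, 2, 2, 1, 2, 0, 2, 0, 2, 0, 1, 2, 1],
  [0, 1, 1, 2, 1, 2, 1, 0, 2, 1, 2, 1],
  [1, 0, 1, 2, 1, 2, 1, 0, 1, 0, 2, 1, 2, 0, 1, 0, 1, 2, 1, 2, 1, 0],
  [0, 2, 1, 0, 1, 0, 2, 0, 0, 1, 0, 1],
  [1, 0, 1, 2, 0, 1, 0, 2, 1, 2, 0, 1, 0, 2, 1, 0],
  [1, 0, 2, 0, 2, 1, 2, 0, 2, 0],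
  [1, 0, 1, 0, 2, 1, 2, 0, 1, 0],
  [1, 2, 0, 2, 1, 0, 1, 2, 1, 2, 1, 0, 1, 2, 0, 2],
  [0, 1, 1, 2, 0, 2, 1, 0, 2, 0, 2, 1],
  [1, 0, 2, 0, 1, 2, 0, 2, 1, 2, 0, 2, 1, 0, 2, 0],
  [0, 1, 1, 2, 0, 1, 2, 1, 0, 2, 1, 0, 2, 1],
  [0, 1, 1, 2, 0, 1, 0, 1, 2, 1, 0, 2, 1, 0, 1, 0, 2, 1],
  [0, 1, 2, 0, 2, 1, 2, 1, 0, 2, 1, 2, 0, 2],
  [1, 0, 2, 0, 1, 0, 1, 2, 0, 2, 0, 1, 0, 2, 0, 2, 1, 0, 1, 0, 2, 0],
  [1, 0, 2, 0, 1, 2, 0, 2, 0, 1, 2, 0, 1, 0, 2, 1, 0, 2, 0, 2, 1, 0, 2, 0],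
  [1, 0, 1, 2, 0, 1, 2, 1, 2, 1, 0, 2, 1, 0],
  [0, 2, 1, 0, 1, 2, 0, 2, 1, 2, 0, 1, 2, 0, 2, 1, 0, 1],
  [1, 0, 2, 1, 2, 1, 0, 2, 1, 2, 0, 1, 2, 1, 2, 0],
  [1, 0, 1, 0, 0, 2, 1, 2, 0, 1, 0, 1, 2, 1, 2, 0],
  [0, 1, 2, 1, 1, 0, 2, 1, 2, 1, 0, 2, 0, 1],
  [1, 0, 1, 2, 1, 2, 1, 0],
  [1, 0, 2, 1, 2, 0, 1, 0, 2, 1, 2, 0],
  [0, 2, 1, 0, 1, 0, 2, 1, 2, 0, 1, 2, 0, 1, 0, 1],
  [1, 0, 2, 0, 0, 1, 0, 2, 1, 0, 2, 0, 1, 1, 2, 0, 1, 0],
  [1, 0, 2, 0, 0, 1, 2, 0, 2, 0, 1, 2, 1, 0],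
  [2, 0, 1, 0, 1, 0, 0, 1, 0, 2, 0, 2, 0, 0, 1, 0, 1, 0, 2, 0, 2, 0, 2, 0, 1, 0],
  [0, 2, 1, 0, 2, 1, 0, 2, 0, 0, 1, 2, 0, 1],
  [1, 2, 0, 1, 2, 1, 2, 1, 0, 2],
  [1, 0, 1, 2, 0, 1, 0, 2, 1, 0],
  [0, 1, 2, 1, 2, 1, 1, 0, 1, 2, 1, 1, 2, 1, 2, 1, 0, 1, 2, 1, 0, 1],
  [0, 1, 1, 2, 1, 0, 2, 1],
  [0, 2, 1, 0, 1, 2, 0, 1, 0, 2, 0, 0, 1, 0, 2, 1, 0, 1],
  [1, 0, 1, 0, 2, 0, 1, 0, 2, 0, 1, 0],
  [1, 0, 2, 1, 2, 0],
  [1, 0, 2, 0, 1, 2, 0, 1, 2, 1, 2, 1, 0, 2, 1, 0, 2, 0],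
  [0, 1, 2, 0, 1, 0, 2, 1, 2, 1, 0, 2, 1, 2, 0, 1, 0, 2]]

theorem reps_eq : data.map Dt.w = reps := by decide +kernel

theorem data_good : ∀ d ∈ data, GE d.w d.q d.k := by
  unfold data
  simp only [List.forall_mem_cons]
  exact ⟨ge_one, g1, g2, g3, g4, g5, g6, g7, g8, g9, g10, g11, g12, g13, g14, g15, g16, g17, g18, g19, g20, g21, g22, g23, g24, g25, g26, g27, g28, g29, g30, g31, g32, g33, g34, g35, g36, g37, g38, g39, g40, g41, g42, g43, g44, g45, g46, g47, g48, g49, g50, g51, g52, g53, g54, g55, fun _ h => absurd h List.not_mem_nil⟩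

theorem data_nodup : (data.map Dt.k).Nodup := by decide +kernel

theorem data_sum : 42305421312000 ≤ (data.map Dt.q).sum := by decide +kernel

/-- **Every element of `Co2` is conjugate to one of the 56 words or to its inverse.** -/
theorem cover (g : Spor.Co2) : ∃ w ∈ reps, IsConj (wd w) g ∨ IsConj (wd w)⁻¹ g := by
  have h := cover_of_data data data_good data_nodup data_sum g
  rwa [reps_eq] at h

end Cfsg.Agent.H633.Ore.Co2
end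
end

-- part: H633/Ore/Co2Ore
section
set_option linter.all false

/-!
# Row `Co2` of the Ore conjecture (helper633)
-/

set_option autoImplicit false

namespace Cfsg.Agent.H633.Ore.Co2

open Cfsg Cfsg.Agent.H777.Ore Cfsg.Agent.H68.Ore

theorem reps_cw : reps = Co2Words.L.map Words.cw := by decide +kernel

/-- every element of `Co2` is a commutator -/
theorem allC_co2 : AllC Spor.Co2 := Words.allC_of_cover (tt := tt) tt_sq reps_cw cover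

/-- every element of `Co2` is a product of four elements with square one -/
theorem inv4_co2 : Inv4 Spor.Co2 := Words.inv4_of_cover (tt := tt) tt_sq reps_cw (by decide +kernel) cover

/-- **Row `Co2` of S2443.** -/
theorem ore_co2 {S : Type*} [Group S] (h : Spor.IsoCo2 S) : AllC S := by
  obtain ⟨e⟩ := h
  exact AllC.congr e.symm allC_co2

/-- **Row `Co2` of S4171.** -/
theorem four_co2 {S : Type*} [Group S] (h : Spor.IsoCo2 S) : Inv4 S := by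
  obtain ⟨e⟩ := h
  exact Words.I4.congr' e.symm inv4_co2

end Cfsg.Agent.H633.Ore.Co2
end
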